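import Mathlib
import Groth.Agent.TraceRat.Val
import Groth.Prelude.Def_Found

/-!
# Levels of elements at valuation rings

An element `x` has level `N/M` with respect to `a` when `v x ^ M ≤ v a ^ N`.
-/

set_option autoImplicit false
set_option linter.style.haveILetI false
set_option linter.unusedSectionVars false
set_option maxHeartbeats 400000

universe u

open Polynomial IsLocalRing

noncomputable section

namespace Groth.Agent.TorBound

variable {K : Type u} [Field K] (V : ValuationSubring K)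

theorem mem_of_pow_mem {x : K} {n : ℕ} (hn : n ≠ 0) (h : x ^ n ∈ V) : x ∈ V := by
  rw [← V.valuation_le_one_iff] at h ⊢
  rw [map_pow] at h
  exact (pow_le_one_iff hn).1 h

theorem div_pow_mem_iff {x a : K} (ha : a ≠ 0) {N M : ℕ} :
    x ^ M / a ^ N ∈ V ↔ V.valuation x ^ M ≤ V.valuation a ^ N := by
  rw [← V.valuation_le_one_iff, map_div₀, map_pow, map_pow,
    div_le_one₀ (pow_pos ((Valuation.pos_iff _).2 ha) N)]

theorem div_pow_nonunit_iff {x a : K} (ha : a ≠ 0) {N M : ℕ} :
    x ^ M / a ^ N ∈ V.nonunits ↔ V.valuation x ^ M < V.valuation a ^ N := by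
  rw [ValuationSubring.mem_nonunits_iff, map_div₀, map_pow, map_pow,
    div_lt_one₀ (pow_pos ((Valuation.pos_iff _).2 ha) N)]

theorem pow_add_le {x y : K} {c : V.ValueGroup} {M : ℕ} (hx : V.valuation x ^ M ≤ c) (hy : V.valuation y ^ M ≤ c) :
    V.valuation (x + y) ^ M ≤ c := by
  rcases le_total (V.valuation x) (V.valuation y) with h | h
  · exact (pow_le_pow_left₀ zero_le ((Valuation.map_add _ _ _).trans (max_le h le_rfl)) M).trans hy
  · exact (pow_le_pow_left₀ zero_le ((Valuation.map_add _ _ _).trans (max_le le_rfl h)) M).trans hx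

theorem pow_sub_le {x y : K} {c : V.ValueGroup} {M : ℕ} (hx : V.valuation x ^ M ≤ c) (hy : V.valuation y ^ M ≤ c) :
    V.valuation (x - y) ^ M ≤ c := by
  rw [sub_eq_add_neg]
  exact pow_add_le V hx (by rwa [Valuation.map_neg])

/-- Elements congruent modulo `a` have the same level at most one. -/
theorem pow_le_of_congr {x y t a : K} (ha : V.valuation a ≤ 1) (ht : t ∈ V) (hxy : x - y = a * t) {N M : ℕ}
    (hNM : N ≤ M) (hy : V.valuation y ^ M ≤ V.valuation a ^ N) : V.valuation x ^ M ≤ V.valuation a ^ N := by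
  have e : x = y + a * t := by rw [← hxy]; ring
  rw [e]
  refine pow_add_le V hy ?_
  rw [map_mul]
  refine le_trans (pow_le_pow_left₀ zero_le ((mul_le_mul_right ((V.valuation_le_one_iff t).2 ht) _).trans ?_) M)
    (pow_le_pow_right_of_le_one' ha hNM)
  rw [mul_one]

theorem pow_sub_pow_nonunit_of_le {x y t a : K} (ha1 : V.valuation a < 1) (ha : a ≠ 0) (ht : t ∈ V)
    (hxy : x - y = a * t) {N M : ℕ} (hNM : N < M) (hx : V.valuation x ^ M ≤ V.valuation a ^ N)
    (hy : V.valuation y ^ M ≤ V.valuation a ^ N) : (x ^ M - y ^ M) / a ^ N ∈ V.nonunits := by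
  rw [ValuationSubring.mem_nonunits_iff, map_div₀, map_pow, div_lt_one₀ (pow_pos ((Valuation.pos_iff _).2 ha) N)]
  have hM : M ≠ 0 := by omega
  obtain ⟨w, hwd, hwM⟩ : ∃ w, V.valuation (∑ i ∈ Finset.range M, x ^ i * y ^ (M - 1 - i)) ≤ w ^ (M - 1) ∧
      w ^ M ≤ V.valuation a ^ N := by
    refine ⟨max (V.valuation x) (V.valuation y), Valuation.map_sum_le _ fun i hi => ?_, ?_⟩
    · rw [map_mul, map_pow, map_pow]
      refine (mul_le_mul' (pow_le_pow_left₀ zero_le (le_max_left (V.valuation x) (V.valuation y)) i)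
        (pow_le_pow_left₀ zero_le (le_max_right (V.valuation x) (V.valuation y)) _)).trans ?_
      rw [← pow_add]
      rw [Finset.mem_range] at hi
      rw [show i + (M - 1 - i) = M - 1 by omega]
    · rcases max_choice (V.valuation x) (V.valuation y) with h | h <;> rw [h] <;> assumption
  have h1 : V.valuation (x ^ M - y ^ M) ≤ V.valuation a * w ^ (M - 1) := by
    rw [← geom_sum₂_mul, hxy, map_mul, mul_comm]
    refine mul_le_mul' ?_ hwd
    rw [map_mul]
    exact (mul_le_mul_right ((V.valuation_le_one_iff t).2 ht) _).trans (mul_one _).le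
  refine lt_of_le_of_lt h1 (lt_of_pow_lt_pow_left₀ M zero_le ?_)
  rw [mul_pow, ← pow_mul w, mul_comm (M - 1) M, pow_mul]
  refine lt_of_le_of_lt (mul_le_mul' le_rfl (pow_le_pow_left₀ zero_le hwM _)) ?_
  rw [← pow_mul, ← pow_mul, ← pow_add]
  refine pow_lt_pow_right_of_lt_one₀ ((Valuation.pos_iff _).2 ha) ha1 ?_
  obtain ⟨k, rfl⟩ : ∃ k, M = k + 1 := ⟨M - 1, by omega⟩
  rw [add_tsub_cancel_right, mul_add, mul_one]
  omega

/-- Residues lying in every finer valuation ring over the base are integral over it. -/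
theorem exists_monic_nonunit {R : Type u} [CommRing R] (φ : R →+* K) (hφ : ∀ r, φ r ∈ V) {x : K} (hx : x ∈ V)
    (h : ∀ W : ValuationSubring K, W ≤ V → (∀ r, φ r ∈ W) → x ∈ W) :
    ∃ Q : R[X], Q.Monic ∧ Q.eval₂ φ x ∈ V.nonunits := by
  classical
  let B : Subring K :=
    { carrier := {c | ∃ r m, m ∈ V.nonunits ∧ c = φ r + m}
      one_mem' := ⟨1, 0, by simp [ValuationSubring.mem_nonunits_iff], by simp⟩
      zero_mem' := ⟨0, 0, by simp [ValuationSubring.mem_nonunits_iff], by simp⟩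
      add_mem' := by
        rintro _ _ ⟨r, m, hm, rfl⟩ ⟨r', m', hm', rfl⟩
        refine ⟨r + r', m + m', ?_, by rw [map_add]; ring⟩
        rw [ValuationSubring.mem_nonunits_iff] at hm hm' ⊢
        exact lt_of_le_of_lt (Valuation.map_add _ _ _) (max_lt hm hm')
      neg_mem' := by
        rintro _ ⟨r, m, hm, rfl⟩
        refine ⟨-r, -m, ?_, by rw [map_neg]; ring⟩
        rw [ValuationSubring.mem_nonunits_iff] at hm ⊢
        rwa [Valuation.map_neg]
      mul_mem' := by
        rintro _ _ ⟨r, m, hm, rfl⟩ ⟨r', m', hm', rfl⟩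
        refine ⟨r * r', φ r * m' + m * (φ r' + m'), ?_, by rw [map_mul]; ring⟩
        rw [ValuationSubring.mem_nonunits_iff] at hm hm' ⊢
        refine lt_of_le_of_lt (Valuation.map_add _ _ _) (max_lt ?_ ?_)
        · rw [map_mul]
          exact lt_of_le_of_lt ((mul_le_mul_left ((V.valuation_le_one_iff _).2 (hφ r)) _).trans (one_mul _).le) hm'
        · rw [map_mul]
          refine lt_of_le_of_lt ((mul_le_mul_right ((V.valuation_le_one_iff _).2 ?_) _).trans (mul_one _).le) hm
          exact add_mem (hφ r') ((V.valuation_le_one_iff _).1 hm'.le) }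
  have hxB : x ∈ (integralClosure (Subring.closure (B : Set K)) K).toSubring := by
    rw [← iInf_valuationSubring_superset]
    simp only [Subring.mem_iInf]
    rintro ⟨W, hW⟩
    have hφW : ∀ r, φ r ∈ W := fun r => hW ⟨r, 0, by simp [ValuationSubring.mem_nonunits_iff], by simp⟩
    have hmW : ∀ m ∈ V.nonunits, m ∈ W := fun m hm => hW ⟨0, m, hm, by simp⟩
    by_cases hWV : W ≤ V
    · exact h W hWV hφW
    · obtain ⟨y, hyW, hyV⟩ := SetLike.not_le_iff_exists.1 hWV
      have hy : y⁻¹ ∈ V.nonunits := V.inv_mem_nonunits_iff.2 (Or.inr hyV)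
      have hyx : y⁻¹ * x ∈ V.nonunits := by
        rw [ValuationSubring.mem_nonunits_iff, map_mul] at *
        exact lt_of_le_of_lt ((mul_le_mul_right ((V.valuation_le_one_iff _).2 hx) _).trans (mul_one _).le) hy
      have hy0 : y ≠ 0 := fun h0 => hyV (h0 ▸ zero_mem V)
      show x ∈ W
      rw [show x = y * (y⁻¹ * x) by field_simp]
      exact mul_mem hyW (hmW _ hyx)
  obtain ⟨p, hp, hpx⟩ := hxB
  have hcl : Subring.closure (B : Set K) = B := Subring.closure_eq B
  choose r m hm hrm using fun i => hcl.le (p.coeff i).2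
  let Q : R[X] := X ^ p.natDegree + ∑ i ∈ Finset.range p.natDegree, C (r i) * X ^ i
  refine ⟨Q, monic_X_pow_add (lt_of_le_of_lt (degree_sum_le _ _) ((Finset.sup_lt_iff (WithBot.bot_lt_coe _)).2
    fun i hi => lt_of_le_of_lt (degree_C_mul_X_pow_le _ _) (WithBot.coe_lt_coe.2 (Finset.mem_range.1 hi)))), ?_⟩
  have hQ : Q.eval₂ φ x = - ∑ i ∈ Finset.range p.natDegree, m i * x ^ i := by
    rw [eq_neg_iff_add_eq_zero, ← hpx, eval₂_add, eval₂_X_pow, eval₂_finsetSum,
      eval₂_eq_sum_range, Finset.sum_range_succ, hp.coeff_natDegree, map_one, one_mul, add_assoc,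
      ← Finset.sum_add_distrib, add_comm]
    refine congrArg (· + _) (Finset.sum_congr rfl fun i _ => ?_)
    rw [eval₂_mul, eval₂_C, eval₂_X_pow, ← add_mul]
    exact congrArg (· * _) (hrm i).symm
  rw [hQ, ValuationSubring.mem_nonunits_iff, Valuation.map_neg]
  refine Valuation.map_sum_lt _ one_ne_zero fun i _ => ?_
  rw [map_mul, map_pow]
  exact lt_of_le_of_lt ((mul_le_mul_right (pow_le_one₀ zero_le ((V.valuation_le_one_iff _).2 hx)) _).trans
    (mul_one _).le) ((V.mem_nonunits_iff).1 (hm i))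

/-- The residue of a unit is a root of a monic polynomial whose constant term is a unit. -/
theorem exists_monic_unit {R : Type u} [CommRing R] [IsLocalRing R] (φ : R →+* K) (hφ : ∀ r, φ r ∈ V)
    (hm : ∀ r ∈ maximalIdeal R, φ r ∈ V.nonunits) {x : K} (hx : V.valuation x = 1)
    (h : ∀ W : ValuationSubring K, W ≤ V → (∀ r, φ r ∈ W) → x ∈ W) :
    ∃ Q : R[X], IsUnit (Q.coeff 0) ∧ Q.eval₂ φ x ∈ V.nonunits := by
  classical
  have hex : ∃ n, ∃ Q : R[X], Q.Monic ∧ Q.natDegree = n ∧ Q.eval₂ φ x ∈ V.nonunits := by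
    obtain ⟨Q, hQ, hQx⟩ := exists_monic_nonunit V φ hφ ((V.valuation_le_one_iff _).1 hx.le) h
    exact ⟨_, Q, hQ, rfl, hQx⟩
  obtain ⟨Q, hQ, hQn, hQx⟩ := Nat.find_spec hex
  refine ⟨Q, by_contra fun hu => ?_, hQx⟩
  have h0 : 0 < Q.natDegree := Nat.pos_of_ne_zero fun h0 => hu (by
    rw [← h0, hQ.coeff_natDegree]
    exact isUnit_one)
  refine Nat.find_min hex (m := Q.natDegree - 1) (by omega) ⟨Q.divX, ?_, natDegree_divX_eq_natDegree_tsub_one, ?_⟩
  · show Q.divX.coeff Q.divX.natDegree = 1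
    rw [natDegree_divX_eq_natDegree_tsub_one, coeff_divX, Nat.sub_add_cancel h0, hQ.coeff_natDegree]
  · have e : Q.eval₂ φ x = x * Q.divX.eval₂ φ x + φ (Q.coeff 0) := by
      conv_lhs => rw [← X_mul_divX_add Q]
      rw [eval₂_add, eval₂_mul, eval₂_X, eval₂_C]
    rw [ValuationSubring.mem_nonunits_iff] at hQx ⊢
    have h1 : V.valuation (x * Q.divX.eval₂ φ x) < 1 := by
      rw [show x * Q.divX.eval₂ φ x = Q.eval₂ φ x - φ (Q.coeff 0) by rw [e]; ring]
      exact Valuation.map_sub_lt _ hQx ((V.mem_nonunits_iff).1 (hm _ ((mem_maximalIdeal _).2 hu)))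
    rwa [map_mul, hx, one_mul] at h1

section Discrete

variable [IsNoetherianRing V] {a : K} (ha : a ≠ 0) (ha1 : V.valuation a < 1)

include ha ha1 in
theorem exists_uniformizer : ∃ (π : K) (e : ℕ), 0 < e ∧ V.valuation π < 1 ∧ π ≠ 0 ∧
    V.valuation a = V.valuation π ^ e ∧ ∀ x ∈ V, x ≠ 0 → ∃ k : ℕ, V.valuation x = V.valuation π ^ k := by
  have haV : a ∈ V := (V.valuation_le_one_iff a).1 ha1.le
  have hne : maximalIdeal V ≠ ⊥ := fun h => by
    have h1 : (⟨a, haV⟩ : V) ∈ maximalIdeal V := (V.valuation_lt_one_iff _).2 ha1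
    rw [h, Ideal.mem_bot] at h1
    exact ha (congrArg Subtype.val h1)
  haveI : IsPrincipalIdealRing V := inferInstance
  haveI : IsDiscreteValuationRing V := { not_a_field' := hne }
  obtain ⟨π, hπ⟩ := IsDiscreteValuationRing.exists_irreducible V
  have hval : ∀ x ∈ V, x ≠ 0 → ∃ k : ℕ, V.valuation x = V.valuation (π : K) ^ k := fun x hx hx0 => by
    obtain ⟨n, w, hw⟩ := IsDiscreteValuationRing.eq_unit_mul_pow_irreducible (x := (⟨x, hx⟩ : V))
      (fun h => hx0 (congrArg Subtype.val h)) hπ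
    refine ⟨n, ?_⟩
    rw [show x = ((w : V) : K) * (π : K) ^ n from congrArg Subtype.val hw, map_mul, map_pow,
      (V.valuation_eq_one_iff _).1 w.isUnit, one_mul]
  obtain ⟨e, he⟩ := hval a haV ha
  refine ⟨π, e, Nat.pos_of_ne_zero fun h => ?_, (V.valuation_lt_one_iff _).1 hπ.not_isUnit,
    fun h => hπ.ne_zero (Subtype.ext h), he, hval⟩
  rw [he, h, pow_zero] at ha1
  exact lt_irrefl _ ha1

include ha ha1 in
theorem exists_ratio {x : K} (hx : x ∈ V) (hx0 : x ≠ 0) :
    ∃ N M : ℕ, 0 < M ∧ V.valuation x ^ M = V.valuation a ^ N := by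
  obtain ⟨π, e, he, -, -, hea, hval⟩ := exists_uniformizer V ha ha1
  obtain ⟨k, hk⟩ := hval x hx hx0
  exact ⟨k, e, he, by rw [hk, hea, ← pow_mul, ← pow_mul, mul_comm]⟩

include ha ha1 in
/-- For divisible enough exponents strictly higher levels jump by one. -/
theorem exists_gap : ∃ e : ℕ, 0 < e ∧ ∀ (M N : ℕ) (x : K), 0 < M → e ∣ M →
    V.valuation x ^ M < V.valuation a ^ N → V.valuation x ^ M ≤ V.valuation a ^ (N + 1) := by
  obtain ⟨π, e, he, hπ1, hπ0, hea, hval⟩ := exists_uniformizer V ha ha1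
  refine ⟨e, he, fun M N x hM hdvd hx => ?_⟩
  rcases eq_or_ne x 0 with rfl | hx0
  · rw [map_zero, zero_pow hM.ne']
    exact zero_le
  have hxV : x ∈ V := mem_of_pow_mem V hM.ne' ((V.valuation_le_one_iff _).1 (by
    rw [map_pow]
    exact hx.le.trans (pow_le_one₀ zero_le ha1.le)))
  obtain ⟨k, hk⟩ := hval x hxV hx0
  obtain ⟨t, rfl⟩ := hdvd
  rw [hk, hea, ← pow_mul, ← pow_mul] at hx ⊢
  refine pow_le_pow_right_of_le_one' hπ1.le ?_
  have h1 : e * N < k * (e * t) := by
    by_contra h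
    exact not_lt.2 (pow_le_pow_right_of_le_one' hπ1.le (not_lt.1 h)) hx
  rw [mul_left_comm] at h1 ⊢
  exact Nat.mul_le_mul_left e (Nat.lt_of_mul_lt_mul_left h1)

end Discrete

section Prime

variable {A : Type u} [CommRing A] [IsDomain A] [Algebra A K] [IsFractionRing A K] (P : Ideal A) [P.IsPrime]
  (hS : ∀ c, c ∈ V ↔ c ∈ TraceRat.loc K P)

local notation "ι" => algebraMap A K

include hS in
theorem map_mem (r : A) : ι r ∈ V := (hS _).2 (Subalgebra.algebraMap_mem _ r)

include hS in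
theorem valuation_map_eq_one {s : A} (hs : s ∉ P) : V.valuation (ι s) = 1 := by
  have h0 : ι s ≠ 0 := (map_ne_zero_iff _ (IsFractionRing.injective A K)).2 fun h => hs (h ▸ zero_mem P)
  refine le_antisymm ((V.valuation_le_one_iff _).2 (map_mem V P hS s)) ?_
  rw [Valuation.one_le_val_iff _ h0, V.valuation_le_one_iff, hS, TraceRat.mem_loc]
  exact ⟨1, s, hs, by rw [map_one, one_mul]⟩

include hS in
theorem valuation_map_lt_one_iff (s : A) : V.valuation (ι s) < 1 ↔ s ∈ P := by
  refine ⟨fun h => by_contra fun hs => (valuation_map_eq_one V P hS hs ▸ h).ne rfl, fun hs => ?_⟩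
  refine lt_of_le_of_ne ((V.valuation_le_one_iff _).2 (map_mem V P hS s)) fun h1 => ?_
  have h0 : ι s ≠ 0 := fun h0 => zero_ne_one (α := V.ValueGroup) (by rw [← h1, h0, map_zero])
  have h2 : (ι s)⁻¹ ∈ V := by rw [← V.valuation_le_one_iff, map_inv₀, h1, inv_one]
  obtain ⟨b, t, ht, e⟩ := (TraceRat.mem_loc K).1 ((hS _).1 h2)
  have ht0 : ι t ≠ 0 := (map_ne_zero_iff _ (IsFractionRing.injective A K)).2 fun h => ht (h ▸ zero_mem P)
  field_simp at e
  exact ht (IsFractionRing.injective A K (e.trans (map_mul (algebraMap A K) s b).symm) ▸ P.mul_mem_right b hs)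

include hS in
/-- Elements whose residue is integral over the base form a finite module modulo the maximal ideal. -/
theorem exists_generators (hN : CAlg.IsNagata A) :
    ∃ (n : ℕ) (b : Fin n → K), (∀ i, b i ∈ V) ∧ ∀ x ∈ V,
      (∀ W : ValuationSubring K, W ≤ V → (∀ r, ι r ∈ W) → x ∈ W) →
        ∃ r : Fin n → A, V.valuation (x - ∑ i, ι (r i) * b i) < 1 := by
  classical
  let f : A →+* V := (algebraMap A K).codRestrict V.toSubring (map_mem V P hS)
  let g : A →+* ResidueField V := (residue V).comp f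
  have hker : ∀ s, g s = 0 ↔ s ∈ P := fun s => by
    show residue V (f s) = 0 ↔ _
    rw [residue_eq_zero_iff, V.valuation_lt_one_iff]
    exact valuation_map_lt_one_iff V P hS s
  letI : Algebra (A ⧸ P) (ResidueField V) := (Ideal.Quotient.lift P g fun s hs => (hker s).2 hs).toAlgebra
  have hmk : ∀ s : A, algebraMap (A ⧸ P) (ResidueField V) (Ideal.Quotient.mk P s) = g s := fun s => rfl
  have hinj : Function.Injective (algebraMap (A ⧸ P) (ResidueField V)) := by
    refine (injective_iff_map_eq_zero _).2 fun s hs => ?_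
    obtain ⟨s, rfl⟩ := Ideal.Quotient.mk_surjective s
    rw [Ideal.Quotient.eq_zero_iff_mem, ← hker]
    exact hs
  have hsurj : ∀ z : ResidueField V, ∃ b s : A ⧸ P,
      z = algebraMap _ _ b / algebraMap (A ⧸ P) (ResidueField V) s := by
    intro z
    obtain ⟨⟨x, hx⟩, rfl⟩ := residue_surjective z
    obtain ⟨b, s, hs, e⟩ := (TraceRat.mem_loc K).1 ((hS x).1 hx)
    refine ⟨Ideal.Quotient.mk P b, Ideal.Quotient.mk P s, ?_⟩
    rw [hmk, hmk, eq_div_iff (fun h => hs ((hker s).1 h))]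
    show residue V _ * residue V (f s) = residue V (f b)
    rw [← map_mul]
    congr 1
    apply Subtype.ext
    show x * ι s = ι b
    have hs0 : ι s ≠ 0 := (map_ne_zero_iff _ (IsFractionRing.injective A K)).2 fun h => hs (h ▸ zero_mem P)
    rw [e, mul_assoc, inv_mul_cancel₀ hs0, mul_one]
  haveI : FaithfulSMul (A ⧸ P) (ResidueField V) := (faithfulSMul_iff_algebraMap_injective _ _).2 hinj
  letI : Algebra (FractionRing (A ⧸ P)) (ResidueField V) := FractionRing.liftAlgebra _ _
  haveI : IsScalarTower (A ⧸ P) (FractionRing (A ⧸ P)) (ResidueField V) := FractionRing.isScalarTower_liftAlgebra _ _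
  haveI : FiniteDimensional (FractionRing (A ⧸ P)) (ResidueField V) := by
    refine Module.Finite.of_surjective (Algebra.linearMap (FractionRing (A ⧸ P)) (ResidueField V)) fun z => ?_
    obtain ⟨b, s, rfl⟩ := hsurj z
    refine ⟨algebraMap _ _ b / algebraMap _ _ s, ?_⟩
    rw [Algebra.linearMap_apply, map_div₀, ← IsScalarTower.algebraMap_apply, ← IsScalarTower.algebraMap_apply]
  haveI : Module.Finite (A ⧸ P) (integralClosure (A ⧸ P) (ResidueField V)) := hN.2 P (ResidueField V) ‹_›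
  obtain ⟨n, c, hc⟩ := Module.Finite.exists_fin (R := A ⧸ P) (M := integralClosure (A ⧸ P) (ResidueField V))
  choose b hb using fun i => residue_surjective ((c i : integralClosure (A ⧸ P) (ResidueField V)) : ResidueField V)
  refine ⟨n, fun i => (b i : K), fun i => (b i).2, fun x hx hW => ?_⟩
  obtain ⟨Q, hQ, hQx⟩ := exists_monic_nonunit V (algebraMap A K) (map_mem V P hS) hx hW
  have hint : IsIntegral (A ⧸ P) (residue V ⟨x, hx⟩) := by
    refine ⟨Q.map (Ideal.Quotient.mk P), hQ.map _, ?_⟩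
    rw [eval₂_map]
    show Q.eval₂ ((residue V).comp f) (residue V ⟨x, hx⟩) = 0
    rw [← hom_eval₂, residue_eq_zero_iff, V.valuation_lt_one_iff]
    rw [show ((Q.eval₂ f ⟨x, hx⟩ : V) : K) = Q.eval₂ (algebraMap A K) x from hom_eval₂ Q f V.subtype ⟨x, hx⟩]
    exact hQx
  have hspan : (⟨_, hint⟩ : integralClosure (A ⧸ P) (ResidueField V)) ∈ Submodule.span (A ⧸ P) (Set.range c) :=
    hc ▸ Submodule.mem_top
  obtain ⟨r, hr⟩ := (Submodule.mem_span_range_iff_exists_fun _).1 hspan
  choose r' hr' using fun i => Ideal.Quotient.mk_surjective (r i)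
  refine ⟨r', ?_⟩
  have h1 : residue V (⟨x, hx⟩ - ∑ i, f (r' i) * b i) = 0 := by
    rw [map_sub, map_sum, sub_eq_zero]
    refine (congrArg Subtype.val hr).symm.trans ?_
    rw [AddSubmonoidClass.coe_finsetSum]
    refine Finset.sum_congr rfl fun i _ => ?_
    show ((r i • c i : integralClosure (A ⧸ P) (ResidueField V)) : ResidueField V) = _
    rw [map_mul, hb, ← hr', SetLike.val_smul, Algebra.smul_def, hmk]
    rfl
  rw [residue_eq_zero_iff, V.valuation_lt_one_iff] at h1
  rw [show ((⟨x, hx⟩ - ∑ i, f (r' i) * b i : V) : K) = x - ∑ i, ι (r' i) * (b i : K) by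
    push_cast
    rfl] at h1
  exact h1

include hS in
/-- One step up in levels, with a uniform multiplier and finitely many corrections. -/
theorem exists_step (hN : CAlg.IsNagata A) {a : A} (haP : a ∈ P) (ha : a ≠ 0) [IsNoetherianRing V] :
    ∃ e : ℕ, 0 < e ∧ ∀ M N : ℕ, 0 < M → e ∣ M →
      ∃ (lam : A) (_ : lam ∉ P) (n : ℕ) (b : Fin n → K), (∀ i, b i ∈ V) ∧
        ∀ x : K, V.valuation x ^ M ≤ V.valuation (ι a) ^ N →
          (∀ W : ValuationSubring K, W ≤ V → (∀ r, ι r ∈ W) → x ^ M / ι a ^ N ∈ W) →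
          ∃ r : Fin n → A, V.valuation (ι lam * x - ∑ i, ι (r i) * b i) ^ M ≤ V.valuation (ι a) ^ (N + 1) := by
  classical
  have ha0 : ι a ≠ 0 := (map_ne_zero_iff _ (IsFractionRing.injective A K)).2 ha
  obtain ⟨e, he, hgap⟩ := exists_gap V ha0 ((valuation_map_lt_one_iff V P hS a).2 haP)
  refine ⟨e, he, fun M N hM hdvd => ?_⟩
  by_cases hex : ∃ x₀ : K, V.valuation x₀ ^ M = V.valuation (ι a) ^ N
  · obtain ⟨x₀, hx₀⟩ := hex
    have hva : V.valuation (ι a) ^ N ≠ 0 := pow_ne_zero _ ((Valuation.ne_zero_iff _).2 ha0)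
    have hx00 : x₀ ≠ 0 := fun h => hva (by rw [← hx₀, h, map_zero, zero_pow hM.ne'])
    have hx₀V : x₀ ∈ V := mem_of_pow_mem V hM.ne' ((V.valuation_le_one_iff _).1 (by
      rw [map_pow, hx₀]
      exact pow_le_one₀ zero_le ((V.valuation_le_one_iff _).2 (map_mem V P hS a))))
    have hwinv : ι a ^ N / x₀ ^ M ∈ V := by
      rw [← V.valuation_le_one_iff, map_div₀, map_pow, map_pow, hx₀, div_self hva]
    obtain ⟨β, lam, hlam, hw⟩ := (TraceRat.mem_loc K).1 ((hS _).1 hwinv)
    obtain ⟨n, c, hc, hgen⟩ := exists_generators V P hS hN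
    refine ⟨lam, hlam, n, fun i => c i * x₀, fun i => mul_mem (hc i) hx₀V, fun x hx hW => ?_⟩
    have hl0 : ι lam ≠ 0 := (map_ne_zero_iff _ (IsFractionRing.injective A K)).2 fun h => hlam (h ▸ zero_mem P)
    have hW' : ∀ W : ValuationSubring K, W ≤ V → (∀ r, ι r ∈ W) → ι lam * (x / x₀) ∈ W := fun W hWV hr => by
      refine mem_of_pow_mem W hM.ne' ?_
      have e' : (ι lam * (x / x₀)) ^ M = ι lam ^ (M - 1) * ι β * (x ^ M / ι a ^ N) := by
        obtain ⟨k, rfl⟩ : ∃ k, M = k + 1 := ⟨M - 1, by omega⟩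
        have hb : ι β = ι lam * (ι a ^ N / x₀ ^ (k + 1)) := by
          rw [hw, mul_comm (ι β), ← mul_assoc, mul_inv_cancel₀ hl0, one_mul]
        have hA : ι a ^ N ≠ 0 := pow_ne_zero _ ha0
        have hX : x₀ ^ (k + 1) ≠ 0 := pow_ne_zero _ hx00
        rw [hb, add_tsub_cancel_right, mul_pow, div_pow, pow_succ (ι lam)]
        field_simp
      rw [e']
      exact mul_mem (mul_mem (pow_mem (hr _) _) (hr _)) (hW W hWV hr)
    have hu : ι lam * (x / x₀) ∈ V := mul_mem (map_mem V P hS _) ((V.valuation_le_one_iff _).1 (by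
      rw [map_div₀, div_le_one₀ ((Valuation.pos_iff _).2 hx00)]
      refine le_of_pow_le_pow_left₀ hM.ne' zero_le ?_
      rwa [hx₀]))
    obtain ⟨r, hr⟩ := hgen _ hu hW'
    refine ⟨r, hgap M N _ hM hdvd ?_⟩
    have e' : ι lam * x - ∑ i, ι (r i) * (c i * x₀) = x₀ * (ι lam * (x / x₀) - ∑ i, ι (r i) * c i) := by
      rw [mul_sub, Finset.mul_sum]
      congr 1
      · field_simp
      · exact Finset.sum_congr rfl fun i _ => by ring
    rw [e', map_mul, mul_pow, hx₀]
    exact (mul_lt_mul_of_pos_left (pow_lt_one₀ zero_le hr hM.ne') (pos_iff_ne_zero.2 hva)).trans_eq (mul_one _)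
  · refine ⟨1, P.one_notMem, 0, Fin.elim0, fun i => i.elim0, fun x hx _ => ⟨Fin.elim0, ?_⟩⟩
    rw [map_one, one_mul, Finset.univ_eq_empty, Finset.sum_empty, sub_zero]
    exact hgap M N x hM hdvd (lt_of_le_of_ne hx fun h => hex ⟨x, h⟩)

end Prime

end Groth.Agent.TorBound
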