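import Mathlib
import Groth.Agent.TorBound.Val
import Groth.Agent.TraceRat.Kill
import Groth.Agent.H26.BiratFibre

/-!
# Levels of families on normal modifications of a normal local domain

A family `G` of local elements with differences divisible by `a` whose levels over the punctured
spectrum are at least `N/M ≤ 1` has level at least `N/M` everywhere.
-/

set_option autoImplicit false
set_option linter.style.haveILetI false
set_option linter.unusedSectionVars false
set_option backward.isDefEq.respectTransparency false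
set_option backward.isDefEq.respectTransparency.types false
set_option maxHeartbeats 400000

universe u

open CategoryTheory CategoryTheory.Limits AlgebraicGeometry TopologicalSpace IsLocalRing Filter
open scoped Topology
open Groth.Agent.FibrePP (O)
open Groth.Agent.NormSeq (Model locRing)
open Groth.Agent.Sol Groth.Agent.RatUp

noncomputable section

namespace Groth.Agent.TorBound

variable {R : CommRingCat.{u}} [IsDomain R]

local notation "KK" => Scheme.functionField (Spec R)
local notation "ι" => algebraMap R (Scheme.functionField (Spec R))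

variable (N : Model (Spec R))

/-- A valuation ring centred at a point. -/
def cv (z : N.Z) : ValuationSubring (Spec R).functionField := (exists_valuation N z).choose

theorem cv_ctr (z : N.Z) : Ctr N (cv N z) z := (exists_valuation N z).choose_spec

/-- The valuation of a chosen valuation ring centred at a point. -/
abbrev vv (z : N.Z) : Valuation (Spec R).functionField (cv N z).ValueGroup := (cv N z).valuation

theorem vv_le_one {z : N.Z} {c : KK} (hc : c ∈ locRing N z) : vv N z c ≤ 1 :=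
  ((cv N z).valuation_le_one_iff c).2 ((cv_ctr N z).1 hc)

theorem vv_map_le_one (z : N.Z) (r : R) : vv N z (ι r) ≤ 1 :=
  vv_le_one N (RatSing.map_mem_locRing N z r)

theorem inv_mem_of_vv_eq_one {z : N.Z} {c : KK} (hc : c ∈ locRing N z) (h : vv N z c = 1) :
    c⁻¹ ∈ locRing N z :=
  (cv_ctr N z).2 c hc (((cv N z).valuation_le_one_iff _).1 (by rw [map_inv₀, h, inv_one]))

theorem locRing_mono {z y : N.Z} (h : z ⤳ y) : locRing N y ≤ locRing N z := fun c hc =>
  (mem_locRing_iff N z c).2 (FibrePP.O_mono h ((mem_locRing_iff N y c).1 hc))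

theorem vv_eq_one_of_specializes {z y : N.Z} (h : z ⤳ y) {c : KK} (hc : c ∈ locRing N y) (h1 : vv N y c = 1) :
    vv N z c = 1 := by
  have h0 : c ≠ 0 := fun h0 => zero_ne_one (α := (cv N y).ValueGroup) (by rw [← h1, h0, map_zero])
  refine le_antisymm (vv_le_one N (locRing_mono N h hc)) ?_
  rw [Valuation.one_le_val_iff _ h0]
  exact vv_le_one N (locRing_mono N h (inv_mem_of_vv_eq_one N hc h1))

theorem vv_lt_one_of_specializes {z y : N.Z} (h : z ⤳ y) {c : KK} (hc : c ∈ locRing N y) (h1 : vv N z c < 1) :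
    vv N y c < 1 :=
  lt_of_le_of_ne (vv_le_one N hc) fun e => h1.ne (vv_eq_one_of_specializes N h hc e)

theorem vv_map_lt_one_iff (z : N.Z) (r : R) : vv N z (ι r) < 1 ↔ r ∈ (N.G z).asIdeal := by
  constructor
  · intro h
    by_contra hr
    refine h.ne (le_antisymm h.le ?_)
    have h0 : ι r ≠ 0 := (map_ne_zero_iff _ (IsFractionRing.injective R _)).2 fun e => hr (e ▸ zero_mem _)
    rw [Valuation.one_le_val_iff _ h0]
    exact vv_le_one N (Sol.O_le N z (TraceRat.inv_mem_O (N.G z) hr))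
  · intro hr
    refine lt_of_le_of_ne (vv_map_le_one N z r) fun h1 => ?_
    obtain ⟨s, hs⟩ := inv_mem_of_vv_eq_one N (RatSing.map_mem_locRing N z r) h1
    change N.toKHom z s = _ at hs
    have h0 : ι r ≠ 0 := fun h0 => zero_ne_one (α := (cv N z).ValueGroup) (by rw [← h1, h0, map_zero])
    have hmul : RatSing.strStalk N z r * s = 1 := N.toK_injective z (by
      rw [map_mul, map_one, RatSing.toK_strStalk, hs, mul_inv_cancel₀ h0])
    have hu : IsUnit ((Spec R).presheaf.germ ⊤ (N.G z) trivial ((Scheme.ΓSpecIso R).inv r)) :=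
      (IsUnit.of_mul_eq_one _ hmul : IsUnit (N.G.stalkMap z _)).of_map (N.G.stalkMap z).hom _
    rw [← (Spec R).mem_basicOpen ((Scheme.ΓSpecIso R).inv r) (N.G z) trivial, basicOpen_eq_of_affine] at hu
    exact hu hr

theorem isClosed_vv_lt (r : R) : IsClosed {z : N.Z | vv N z (ι r) < 1} := by
  have e : {z : N.Z | vv N z (ι r) < 1} = N.G ⁻¹' (PrimeSpectrum.zeroLocus {r}) := Set.ext fun z => by
    rw [Set.mem_setOf_eq, vv_map_lt_one_iff, Set.mem_preimage, PrimeSpectrum.mem_zeroLocus, Set.singleton_subset_iff]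
    rfl
  rw [e]
  exact (PrimeSpectrum.isClosed_zeroLocus _).preimage N.G.continuous

theorem vv_genericPoint {c : KK} (hc : c ≠ 0) : vv N (genericPoint N.Z) c = 1 := by
  have h : ∀ d : KK, d ∈ locRing N (genericPoint N.Z) := fun d =>
    (mem_locRing_iff N _ d).2 (FibrePP.O_genericPoint _)
  refine le_antisymm (vv_le_one N (h c)) ?_
  rw [Valuation.one_le_val_iff _ hc]
  exact vv_le_one N (h _)

/-- At points of dimension at most one the local ring is a valuation ring. -/
theorem mem_locRing_iff_mem_cv {z : N.Z} (hn : IsIntegrallyClosed (N.Z.presheaf.stalk z))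
    [IsLocallyNoetherian N.Z] (hz : ringKrullDim (N.Z.presheaf.stalk z) ≤ 1) (c : KK) :
    c ∈ locRing N z ↔ c ∈ cv N z := by
  refine ⟨fun h => (cv_ctr N z).1 h, fun hc => ?_⟩
  haveI := hn
  haveI : Ring.KrullDimLE 1 (N.Z.presheaf.stalk z) := Ring.krullDimLE_iff.mpr hz
  haveI : Ring.DimensionLEOne (N.Z.presheaf.stalk z) :=
    ⟨fun {p} hp0 hp => Ring.krullDimLE_one_iff_of_noZeroDivisors.mp inferInstance p hp0 hp⟩
  have hD : IsDedekindDomain (N.Z.presheaf.stalk z) := {}
  haveI hv : ValuationRing (N.Z.presheaf.stalk z) :=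
    ((tfae_of_isNoetherianRing_of_isLocalRing_of_isDomain (N.Z.presheaf.stalk z)).out 2 1
      (a := IsDedekindDomain (N.Z.presheaf.stalk z)) (b := ValuationRing (N.Z.presheaf.stalk z)) rfl rfl).mp hD
  rw [mem_locRing_iff]
  rcases ValuationRing.isInteger_or_isInteger (N.Z.presheaf.stalk z) (N.ψ c) with ⟨s, hs⟩ | ⟨s, hs⟩
  · exact ⟨s, hs⟩
  · have h1 : c⁻¹ ∈ locRing N z := (mem_locRing_iff N z _).2 ⟨s, by rw [map_inv₀]; exact hs⟩
    have h2 := (cv_ctr N z).2 _ h1 (by rwa [inv_inv])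
    rw [inv_inv, mem_locRing_iff] at h2
    exact h2

theorem isNoetherianRing_cv {z : N.Z} (hn : IsIntegrallyClosed (N.Z.presheaf.stalk z))
    [IsLocallyNoetherian N.Z] (hz : ringKrullDim (N.Z.presheaf.stalk z) ≤ 1) : IsNoetherianRing (cv N z) :=
  isNoetherianRing_of_surjective (N.Z.presheaf.stalk z) (cv N z)
    ((N.toKHom z).hom.codRestrict (cv N z).toSubring fun s => (cv_ctr N z).1 ⟨s, rfl⟩) fun c => by
      obtain ⟨s, hs⟩ := (mem_locRing_iff_mem_cv N hn hz c.1).2 c.2
      exact ⟨s, Subtype.ext hs⟩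

/-- Local elements whose nearby differences are divisible by `a`. -/
structure Fam (a : R) (g : N.Z → (Spec R).functionField) : Prop where
  mem : ∀ y, g y ∈ locRing N y
  near : ∀ y, ∀ᶠ z in 𝓝 y, ∃ t ∈ locRing N z, g y - g z = algebraMap R _ a * t

variable {N}
variable {a : R} {g : N.Z → (Spec R).functionField}

theorem Fam.spec (hG : Fam N a g) {z y : N.Z} (h : z ⤳ y) : ∃ t ∈ locRing N z, g y - g z = ι a * t := by
  obtain ⟨W, hW, hWo, hyW⟩ := eventually_nhds_iff.1 (hG.near y)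
  exact hW z (h.mem_open hWo hyW)

theorem Fam.spec' (hG : Fam N a g) {z y : N.Z} (h : z ⤳ y) : ∃ t ∈ cv N z, g y - g z = ι a * t := by
  obtain ⟨t, ht, e⟩ := hG.spec h
  exact ⟨t, (cv_ctr N z).1 ht, e⟩

/-- Levels at most one can be checked at the points of dimension at most one. -/
theorem mem_of_levels [IsLocallyNoetherian N.Z] (hNn : Pi1.IsNormalScheme N.Z) (ha : a ≠ 0) (hG : Fam N a g)
    {n m : ℕ} (hnm : n ≤ m)
    (h : ∀ z : N.Z, ringKrullDim (N.Z.presheaf.stalk z) ≤ 1 → vv N z (ι a) < 1 →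
      vv N z (g z) ^ m ≤ vv N z (ι a) ^ n) (y : N.Z) :
    g y ^ m / ι a ^ n ∈ locRing N y := by
  have ha0 : ι a ≠ 0 := (map_ne_zero_iff _ (IsFractionRing.injective R _)).2 ha
  by_contra hc
  rw [mem_locRing_iff] at hc
  obtain ⟨z, hzy, hz, hcz⟩ := FibrePP.exists_height_le_one_of_notMem hNn hc
  rw [← mem_locRing_iff, mem_locRing_iff_mem_cv N (hNn z).2 hz, div_pow_mem_iff _ ha0] at hcz
  refine hcz ?_
  rcases (vv_map_le_one N z a).lt_or_eq with hlt | heq
  · obtain ⟨t, ht, e⟩ := hG.spec' hzy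
    exact pow_le_of_congr (cv N z) hlt.le ht e hnm (h z hz hlt)
  · show vv N z (g y) ^ m ≤ vv N z (ι a) ^ n
    rw [heq, one_pow]
    exact pow_le_one₀ zero_le (vv_le_one N (locRing_mono N hzy (hG.mem y)))

/-- Differences of the normalised powers vanish residually along specializations. -/
theorem diff_lt_one (ha : a ≠ 0) (hG : Fam N a g) {n m : ℕ} (hnm : n < m)
    (hlev : ∀ y, g y ^ m / ι a ^ n ∈ locRing N y) {z y : N.Z} (h : z ⤳ y) (hz : vv N z (ι a) < 1) :
    vv N z (g y ^ m / ι a ^ n - g z ^ m / ι a ^ n) < 1 := by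
  have ha0 : ι a ≠ 0 := (map_ne_zero_iff _ (IsFractionRing.injective R _)).2 ha
  obtain ⟨t, ht, e⟩ := hG.spec' h
  rw [← sub_div]
  exact (ValuationSubring.mem_nonunits_iff _).1 (pow_sub_pow_nonunit_of_le (cv N z) hz ha0 ht e hnm
    ((div_pow_mem_iff _ ha0).1 ((cv_ctr N z).1 (locRing_mono N h (hlev y))))
    ((div_pow_mem_iff _ ha0).1 ((cv_ctr N z).1 (hlev z))))

/-- The normalised power lies in all finer valuation rings over the base. -/
theorem mem_finer [IsProper N.G] (ha : a ≠ 0) (hG : Fam N a g) {n m : ℕ} (hnm : n < m)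
    (hlev : ∀ y, g y ^ m / ι a ^ n ∈ locRing N y) {η : N.Z} {S : ValuationSubring KK} (hS : Ctr N S η)
    (hη : S.valuation (ι a) < 1) (W : ValuationSubring KK) (hWS : W ≤ S) (hW : ∀ r, ι r ∈ W) :
    g η ^ m / ι a ^ n ∈ W := by
  have ha0 : ι a ≠ 0 := (map_ne_zero_iff _ (IsFractionRing.injective R _)).2 ha
  haveI : IsSeparated N.G := inferInstance
  obtain ⟨y, hy⟩ := exists_ctr N W hW
  obtain ⟨z, hzy, hz⟩ := exists_ctr_specializes N S (z := y) fun c hc => hWS (hy.1 hc)
  obtain rfl := Ctr.unique N hS hz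
  obtain ⟨t, ht, e⟩ := hG.spec hzy
  have h1 : (g y ^ m - g η ^ m) / ι a ^ n ∈ S.nonunits := pow_sub_pow_nonunit_of_le S hη ha0 (hS.1 ht) e hnm
    ((div_pow_mem_iff _ ha0).1 (hS.1 (locRing_mono N hzy (hlev y)))) ((div_pow_mem_iff _ ha0).1 (hS.1 (hlev η)))
  have h2 : (g y ^ m - g η ^ m) / ι a ^ n ∈ W :=
    ValuationSubring.nonunits_subset ((ValuationSubring.nonunits_le_nonunits).2 hWS h1)
  have h3 := sub_mem (hy.1 (hlev y)) h2
  rwa [sub_div, sub_sub_cancel] at h3

theorem vv_eval_congr {η : N.Z} {Q : Polynomial R} {x y : KK} (hx : x ∈ cv N η) (hy : y ∈ cv N η)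
    (hxy : vv N η (x - y) < 1) (hQ : vv N η (Q.eval₂ ι x) < 1) : vv N η (Q.eval₂ ι y) < 1 := by
  let f : R →+* cv N η :=
    (algebraMap R KK).codRestrict (cv N η).toSubring fun r => ((cv N η).valuation_le_one_iff _).1 (vv_map_le_one N η r)
  have key : ∀ w : cv N η, vv N η (Q.eval₂ ι (w : KK)) < 1 ↔ residue (cv N η) (Q.eval₂ f w) = 0 := fun w => by
    rw [residue_eq_zero_iff, (cv N η).valuation_lt_one_iff,
      show ((Q.eval₂ f w : cv N η) : KK) = Q.eval₂ ι (w : KK) from Polynomial.hom_eval₂ Q f (cv N η).subtype w]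
  rw [key ⟨x, hx⟩, Polynomial.hom_eval₂] at hQ
  rw [key ⟨y, hy⟩, Polynomial.hom_eval₂]
  have h : residue (cv N η) ⟨x, hx⟩ = residue (cv N η) ⟨y, hy⟩ := by
    rw [← sub_eq_zero, ← map_sub, residue_eq_zero_iff, (cv N η).valuation_lt_one_iff]
    exact hxy
  rwa [← h]

theorem vv_coeff_zero_lt_one {y : N.Z} {Q : Polynomial R} {x : KK} (hx : vv N y x < 1)
    (hQ : vv N y (Q.eval₂ ι x) < 1) : vv N y (ι (Q.coeff 0)) < 1 := by
  have e : ι (Q.coeff 0) = Q.eval₂ ι x - x * Q.divX.eval₂ ι x := by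
    conv_rhs => rw [← Polynomial.X_mul_divX_add Q, Polynomial.eval₂_add, Polynomial.eval₂_mul, Polynomial.eval₂_X,
      Polynomial.eval₂_C, Polynomial.X_mul_divX_add Q]
    ring
  rw [e]
  refine Valuation.map_sub_lt _ hQ ?_
  rw [map_mul]
  refine lt_of_le_of_lt ((mul_le_mul_right ?_ _).trans (mul_one _).le) hx
  rw [Polynomial.eval₂_eq_sum_range]
  refine Valuation.map_sum_le _ fun i _ => ?_
  rw [map_mul, map_pow]
  exact mul_le_one₀ (vv_map_le_one N y _) zero_le (pow_le_one₀ zero_le hx.le)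

/-- On a connected closed fibre a residually nonvanishing family vanishes nowhere. -/
theorem vv_eq_one_of_connected [IsLocalRing R] [IsProper N.G] [IsLocallyNoetherian N.Z]
    (hconn : _root_.IsConnected (N.G ⁻¹' {closedPoint R} : Set N.Z)) (ham : a ∈ maximalIdeal R) (ha : a ≠ 0)
    (hG : Fam N a g) {n m : ℕ} (hnm : n < m) (hlev : ∀ y, g y ^ m / ι a ^ n ∈ locRing N y) {η₀ : N.Z}
    (hη₀F : N.G η₀ = closedPoint R) (hη₀ : vv N η₀ (g η₀ ^ m / ι a ^ n) = 1) (y : N.Z)
    (hyF : N.G y = closedPoint R) : vv N y (g y ^ m / ι a ^ n) = 1 := by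
  classical
  set F : Set N.Z := N.G ⁻¹' {closedPoint R} with hFdef
  set σ : N.Z → KK := fun z => g z ^ m / ι a ^ n with hσdef
  have hmax : ∀ z ∈ F, ∀ r ∈ maximalIdeal R, vv N z (ι r) < 1 := fun z hz r hr => by
    rw [vv_map_lt_one_iff, show N.G z = closedPoint R from hz]
    exact hr
  have hFc : IsClosed F := (isClosed_singleton_closedPoint R).preimage N.G.continuous
  haveI : CompactSpace N.Z := QuasiCompact.compactSpace_of_compactSpace N.G
  haveI : IsNoetherian N.Z := {}
  haveI : QuasiSober F := hFc.isClosedEmbedding_subtypeVal.quasiSober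
  -- generic points of the components
  have hgp : ∀ C : irreducibleComponents F, ∃ η : F, IsGenericPoint η (C : Set F) := fun C =>
    QuasiSober.sober C.2.1 (isClosed_of_mem_irreducibleComponents _ C.2)
  choose gp hgp using hgp
  haveI : Finite (irreducibleComponents F) :=
    TopologicalSpace.NoetherianSpace.finite_irreducibleComponents.to_subtype
  have hcov : ∀ z ∈ F, ∃ C : irreducibleComponents F, (gp C : N.Z) ⤳ z := fun z hz =>
    ⟨⟨_, irreducibleComponent_mem_irreducibleComponents (⟨z, hz⟩ : F)⟩,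
      ((hgp ⟨_, irreducibleComponent_mem_irreducibleComponents (⟨z, hz⟩ : F)⟩).specializes
        (mem_irreducibleComponent (x := (⟨z, hz⟩ : F)))).map continuous_subtype_val⟩
  -- polynomials at the generic points where the residue is a unit
  have hQ : ∀ C : irreducibleComponents F, ∃ Q : Polynomial R, IsUnit (Q.coeff 0) ∧
      (vv N (gp C : N.Z) (σ (gp C)) = 1 → vv N (gp C : N.Z) (Q.eval₂ ι (σ (gp C))) < 1) := fun C => by
    by_cases h1 : vv N (gp C : N.Z) (σ (gp C)) = 1
    · obtain ⟨Q, hQ0, hQx⟩ := exists_monic_unit (cv N (gp C : N.Z)) (algebraMap R KK)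
        (fun r => ((cv N _).valuation_le_one_iff _).1 (vv_map_le_one N _ r))
        (fun r hr => hmax _ (gp C).2 r hr) h1
        (mem_finer ha hG hnm hlev (cv_ctr N _) (hmax _ (gp C).2 a ham))
      exact ⟨Q, hQ0, fun _ => hQx⟩
    · exact ⟨1, by rw [Polynomial.coeff_one_zero]; exact isUnit_one, fun h => absurd h h1⟩
  choose Q hQ0 hQ using hQ
  let S : Bool → Set N.Z := fun b =>
    ⋃ C ∈ {C : irreducibleComponents F | decide (vv N (gp C : N.Z) (σ (gp C)) = 1) = b}, closure {(gp C : N.Z)}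
  have hScl : ∀ b, IsClosed (S b) := fun b => (Set.toFinite _).isClosed_biUnion fun C _ => isClosed_closure
  -- residues along specializations
  have hdiff : ∀ {η z : N.Z}, η ∈ F → η ⤳ z → vv N η (σ z - σ η) < 1 := fun hη h =>
    diff_lt_one ha hG hnm hlev h (hmax _ hη a ham)
  have hdisj : ∀ z ∈ S true, vv N z (σ z) = 1 := fun z hz => by
    obtain ⟨C, hC, hzC⟩ := Set.mem_iUnion₂.1 hz
    have hCz : (gp C : N.Z) ⤳ z := specializes_iff_mem_closure.2 hzC
    have h1 : vv N (gp C : N.Z) (σ (gp C)) = 1 := of_decide_eq_true hC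
    refine le_antisymm (vv_le_one N (hlev z)) (not_lt.1 fun hlt => ?_)
    have hz' : (σ z) ∈ locRing N (gp C : N.Z) := locRing_mono N hCz (hlev z)
    have h2 : vv N (gp C : N.Z) ((Q C).eval₂ ι (σ z)) < 1 :=
      vv_eval_congr ((cv_ctr N _).1 (hlev _)) ((cv_ctr N _).1 hz')
        (by rw [Valuation.map_sub_swap]; exact hdiff (gp C).2 hCz) (hQ C h1)
    have hev : (Q C).eval₂ ι (σ z) ∈ locRing N z := by
      rw [Polynomial.eval₂_eq_sum_range]
      exact sum_mem fun i _ => mul_mem (RatSing.map_mem_locRing N z _) (pow_mem (hlev z) _)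
    have h3 := vv_coeff_zero_lt_one hlt (vv_lt_one_of_specializes N hCz hev h2)
    rw [vv_map_lt_one_iff] at h3
    exact (N.G z).isPrime.ne_top (Ideal.eq_top_of_isUnit_mem _ h3 (hQ0 C))
  have hzero : ∀ z ∈ S false, vv N z (σ z) < 1 := fun z hz => by
    obtain ⟨C, hC, hzC⟩ := Set.mem_iUnion₂.1 hz
    have hCz : (gp C : N.Z) ⤳ z := specializes_iff_mem_closure.2 hzC
    refine vv_lt_one_of_specializes N hCz (hlev z) ?_
    have h1 : vv N (gp C : N.Z) (σ (gp C)) < 1 :=
      lt_of_le_of_ne (vv_le_one N (hlev _)) (of_decide_eq_false hC)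
    have h2 := Valuation.map_add_lt _ (hdiff (gp C).2 hCz) h1
    rwa [sub_add_cancel] at h2
  have hmem : ∀ z ∈ F, z ∈ S true ∨ z ∈ S false := fun z hz => by
    obtain ⟨C, hC⟩ := hcov z hz
    by_cases h1 : vv N (gp C : N.Z) (σ (gp C)) = 1
    · exact Or.inl (Set.mem_iUnion₂.2 ⟨C, decide_eq_true h1, specializes_iff_mem_closure.1 hC⟩)
    · exact Or.inr (Set.mem_iUnion₂.2 ⟨C, decide_eq_false h1, specializes_iff_mem_closure.1 hC⟩)
  rcases hmem y hyF with h | h
  · exact hdisj y h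
  · exfalso
    have h₀ : η₀ ∈ S true := (hmem η₀ hη₀F).resolve_right fun h' => (hzero η₀ h').ne hη₀
    obtain ⟨z, -, hz1, hz2⟩ := isPreconnected_closed_iff.1 hconn.isPreconnected (S true) (S false) (hScl _) (hScl _)
      (fun z hz => hmem z hz) ⟨η₀, hη₀F, h₀⟩ ⟨y, hyF, h⟩
    exact (hzero z hz2).ne (hdisj z hz1)

/-- Levels over the punctured spectrum propagate to every point. -/
theorem key [IsNoetherianRing R] [IsLocalRing R] [IsIntegrallyClosed R] [IsProper N.G] [IsLocallyNoetherian N.Z]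
    (hNn : Pi1.IsNormalScheme N.Z) {U : (Spec R).Opens} (hU : (U : Set (Spec R)).Nonempty) [IsIso (N.G ∣_ U)]
    (ham : a ∈ maximalIdeal R) (ha : a ≠ 0) (hheight : 1 < (maximalIdeal R).height)
    (hG : Fam N a g) {n m : ℕ} (hnm : n ≤ m) (hm : 0 < m)
    (h : ∀ z : N.Z, ringKrullDim (N.Z.presheaf.stalk z) ≤ 1 → vv N z (ι a) < 1 → N.G z ≠ closedPoint R →
      vv N z (g z) ^ m ≤ vv N z (ι a) ^ n) (y : N.Z) :
    g y ^ m / ι a ^ n ∈ locRing N y := by
  classical
  have ha0 : ι a ≠ 0 := (map_ne_zero_iff _ (IsFractionRing.injective R _)).2 ha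
  haveI : CompactSpace N.Z := QuasiCompact.compactSpace_of_compactSpace N.G
  refine mem_of_levels hNn ha hG hnm ?_ y
  clear y
  by_contra hbad
  push Not at hbad
  let bad : Set N.Z := {z | ringKrullDim (N.Z.presheaf.stalk z) ≤ 1 ∧ vv N z (ι a) < 1 ∧
    vv N z (ι a) ^ n < vv N z (g z) ^ m}
  have hfin : bad.Finite :=
    (FibrePP.finite_heightOne (isClosed_vv_lt N a) fun h => h.ne (vv_genericPoint N ha0)).subset
      fun z hz => ⟨hz.2.1, hz.1⟩
  have hne : hfin.toFinset.Nonempty := by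
    obtain ⟨z, h1, h2, h3⟩ := hbad
    exact ⟨z, hfin.mem_toFinset.2 ⟨h1, h2, h3⟩⟩
  have hratio : ∀ z, z ∈ bad → ∃ n' m' : ℕ, 0 < m' ∧ vv N z (g z) ^ m' = vv N z (ι a) ^ n' := fun z hz => by
    haveI := isNoetherianRing_cv N (hNn z).2 hz.1
    refine exists_ratio (cv N z) ha0 hz.2.1 ((cv_ctr N z).1 (hG.mem z)) fun h0 => ?_
    refine not_le.2 hz.2.2 ?_
    rw [h0, map_zero, zero_pow hm.ne']
    exact zero_le
  choose! nb mb hmb hnmb using hratio
  obtain ⟨η₀, hη₀, hmin⟩ := hfin.toFinset.exists_min_image (fun z => (nb z : ℚ) / (mb z : ℚ)) hne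
  rw [hfin.mem_toFinset] at hη₀
  set n' := nb η₀
  set m' := mb η₀
  have hm' : 0 < m' := hmb η₀ hη₀
  have hσ : vv N η₀ (g η₀ ^ m' / ι a ^ n') = 1 := by
    rw [map_div₀, map_pow, map_pow, hnmb η₀ hη₀, div_self (pow_ne_zero _ ((Valuation.ne_zero_iff _).2 ha0))]
  have hslope : n' * m < n * m' := by
    by_contra hle
    refine not_le.2 hη₀.2.2 (le_of_pow_le_pow_left₀ hm'.ne' zero_le ?_)
    rw [← pow_mul, mul_comm m, pow_mul, hnmb η₀ hη₀, ← pow_mul, ← pow_mul]
    exact pow_le_pow_right_of_le_one' hη₀.2.1.le (not_lt.1 hle)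
  have hnm' : n' < m' := by
    by_contra hle
    exact absurd ((Nat.mul_le_mul hnm (not_lt.1 hle)).trans (le_of_eq (mul_comm m n'))) (not_le.2 hslope)
  -- every level is at least the minimal slope
  have hall : ∀ z : N.Z, ringKrullDim (N.Z.presheaf.stalk z) ≤ 1 → vv N z (ι a) < 1 →
      vv N z (g z) ^ m' ≤ vv N z (ι a) ^ n' := by
    intro z hz haz
    by_cases hb : vv N z (g z) ^ m ≤ vv N z (ι a) ^ n
    · refine le_of_pow_le_pow_left₀ hm.ne' zero_le ?_
      rw [← pow_mul, mul_comm m', pow_mul, ← pow_mul (vv N z (ι a))]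
      refine (pow_le_pow_left₀ zero_le hb m').trans ?_
      rw [← pow_mul]
      exact pow_le_pow_right_of_le_one' haz.le hslope.le
    · have hzb : z ∈ bad := ⟨hz, haz, not_le.1 hb⟩
      refine le_of_pow_le_pow_left₀ (hmb z hzb).ne' zero_le ?_
      rw [← pow_mul, mul_comm m', pow_mul, hnmb z hzb, ← pow_mul, ← pow_mul]
      refine pow_le_pow_right_of_le_one' haz.le ?_
      have h1 := hmin z (hfin.mem_toFinset.2 hzb)
      rw [div_le_div_iff₀ (by exact_mod_cast hm') (by exact_mod_cast hmb z hzb)] at h1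
      exact_mod_cast h1
  have hlev := mem_of_levels hNn ha hG hnm'.le hall
  have hη₀F : N.G η₀ = closedPoint R := by_contra fun hne' => not_le.2 hη₀.2.2 (h η₀ hη₀.1 hη₀.2.1 hne')
  haveI : IsLocallyNoetherian (Spec R) := inferInstance
  haveI : IsIntegrallyClosed ((Spec R).presheaf.stalk (closedPoint R)) := by
    letI : Algebra R ((Spec R).presheaf.stalk (closedPoint R)) := StructureSheaf.stalkAlgebra R (closedPoint R)
    haveI : IsLocalization.AtPrime ((Spec R).presheaf.stalk (closedPoint R)) (closedPoint R).asIdeal :=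
      StructureSheaf.IsLocalization.to_stalk R (closedPoint R)
    exact isIntegrallyClosed_of_isLocalization _ (closedPoint R).asIdeal.primeCompl
      (closedPoint R).asIdeal.primeCompl_le_nonZeroDivisors
  have hconn : _root_.IsConnected (N.G ⁻¹' {closedPoint R} : Set N.Z) :=
    H26.BiratFibre.isConnected_preimage N.G hU (closedPoint R)
  -- a point over the punctured spectrum
  obtain ⟨P, hP⟩ := Ideal.nonempty_minimalPrimes
    (I := Ideal.span {a}) ((Ideal.span_singleton_eq_top).not.2 fun hu => (mem_maximalIdeal a).1 ham hu)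
  haveI := hP.1.1
  have haP : a ∈ P := hP.1.2 (Ideal.subset_span rfl)
  have hP1 : P.height ≤ 1 := Ideal.height_le_one_of_isPrincipal_of_mem_minimalPrimes _ _ hP
  let x : Spec R := ⟨P, hP.1.1⟩
  have hx : x ≠ closedPoint R := fun e => by
    rw [show P = maximalIdeal R from congrArg PrimeSpectrum.asIdeal e] at hP1
    exact not_le.2 hheight hP1
  obtain ⟨z, hz⟩ := H26.BiratFibre.surjective N.G hU x
  have hza : vv N z (ι a) < 1 := by rw [vv_map_lt_one_iff, hz]; exact haP
  have hnot : (ι a)⁻¹ ∉ locRing N z := fun hmem => by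
    have h1 := vv_le_one N hmem
    rw [map_inv₀, inv_le_one₀ ((Valuation.pos_iff _).2 ha0)] at h1
    exact not_le.2 hza h1
  rw [mem_locRing_iff] at hnot
  obtain ⟨ξ, hξz, hξ1, hξnot⟩ := FibrePP.exists_height_le_one_of_notMem hNn hnot
  have hξa : vv N ξ (ι a) < 1 := lt_of_le_of_ne (vv_map_le_one N ξ a) fun e =>
    hξnot ((mem_locRing_iff N ξ _).1 (inv_mem_of_vv_eq_one N (RatSing.map_mem_locRing N ξ a) e))
  have hξF : N.G ξ ≠ closedPoint R := fun e => hx (by
    have h1 : N.G ξ ⤳ x := hz ▸ hξz.map N.G.continuous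
    rw [e] at h1
    exact (h1.antisymm (IsLocalRing.specializes_closedPoint x)).eq.symm)
  obtain ⟨y, hξy, hyF⟩ : ∃ y, ξ ⤳ y ∧ N.G y = closedPoint R := by
    have h1 : closedPoint R ∈ N.G '' closure {ξ} := (IsLocalRing.specializes_closedPoint (N.G ξ)).mem_closed
      (N.G.isClosedMap _ isClosed_closure) ⟨ξ, subset_closure rfl, rfl⟩
    obtain ⟨y, hy, hy'⟩ := h1
    exact ⟨y, specializes_iff_mem_closure.2 hy, hy'⟩
  have hσy := vv_eq_one_of_connected hconn ham ha hG hnm' hlev hη₀F hσ y hyF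
  have h1 : vv N ξ (g y ^ m' / ι a ^ n') = 1 := vv_eq_one_of_specializes N hξy (hlev y) hσy
  have h2 : vv N ξ (g ξ ^ m' / ι a ^ n') < 1 := by
    rw [map_div₀, map_pow, map_pow, div_lt_one₀ (pow_pos ((Valuation.pos_iff _).2 ha0) _)]
    refine lt_of_pow_lt_pow_left₀ m zero_le ?_
    rw [← pow_mul, mul_comm m', pow_mul, ← pow_mul (vv N ξ (ι a))]
    refine lt_of_le_of_lt (pow_le_pow_left₀ zero_le (h ξ hξ1 hξa hξF) m') ?_
    rw [← pow_mul]
    exact pow_lt_pow_right_of_lt_one₀ ((Valuation.pos_iff _).2 ha0) hξa hslope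
  have h3 := Valuation.map_add_lt _ (diff_lt_one ha hG hnm' hlev hξy hξa) h2
  rw [sub_add_cancel, h1] at h3
  exact lt_irrefl _ h3

end Groth.Agent.TorBound
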