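import Mathlib
import Groth.Agent.TorBound.Key
import Groth.Agent.Sol.Class

/-!
# A uniform bound for the torsion of the first cohomology of normal modifications

For a nonzero element `a` of a two-dimensional normal Nagata local domain there is an element `c`, prime to
`a` in codimension one, such that the `a`-torsion of `H¹(X, O)` embeds in the quotient by `(a, c)` for every
normal modification `X`.
-/

set_option autoImplicit false
set_option linter.style.haveILetI false
set_option linter.unusedSectionVars false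
set_option backward.isDefEq.respectTransparency false
set_option backward.isDefEq.respectTransparency.types false
set_option maxHeartbeats 800000

universe u

open CategoryTheory CategoryTheory.Limits AlgebraicGeometry TopologicalSpace IsLocalRing Filter
open scoped Topology
open Groth.Agent.FibrePP (O)
open Groth.Agent.NormSeq (Model locRing)
open Groth.Agent.Sol Groth.Agent.RatUp

noncomputable section

namespace Groth.Agent.TorBound

variable {R : CommRingCat.{u}} [IsDomain R]

local notation "KK" => Scheme.functionField (Spec R)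
local notation "ι" => algebraMap R (Scheme.functionField (Spec R))

/-- An element in every valuation ring over a normal domain lies in it. -/
theorem mem_range_of_forall [IsIntegrallyClosed R] (x : KK)
    (h : ∀ W : ValuationSubring KK, (∀ r, ι r ∈ W) → x ∈ W) : ∃ r, ι r = x := by
  have hx : x ∈ (integralClosure (Subring.closure (Set.range ι)) KK).toSubring := by
    rw [← iInf_valuationSubring_superset]
    simp only [Subring.mem_iInf]
    rintro ⟨W, hW⟩
    exact h W fun r => hW ⟨r, rfl⟩
  refine IsIntegrallyClosed.isIntegral_iff.1 ?_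
  obtain ⟨p, hp, hpx⟩ := hx
  have hcl : Subring.closure (Set.range ι) = (algebraMap R KK).range := Subring.closure_eq (algebraMap R KK).range
  have hlifts : p.map (algebraMap _ KK) ∈ Polynomial.lifts (algebraMap R KK) := by
    rw [Polynomial.lifts_iff_coeff_lifts]
    intro n
    rw [Polynomial.coeff_map]
    exact hcl.le (p.coeff n).2
  obtain ⟨P, hP, -, hPm⟩ := Polynomial.lifts_and_degree_eq_and_monic hlifts (hp.map _)
  refine ⟨P, hPm, ?_⟩
  rw [← Polynomial.eval_map, hP, Polynomial.eval_map]
  exact hpx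

theorem strHom_top_eq (N : Model (Spec R)) (r : R) :
    BlowUpLib.strHom (A := R) N.G ⊤ r = Coh.toGlobal N.G r := by
  show N.G.appLE ⊤ ⊤ le_top ((Scheme.ΓSpecIso R).inv r) = N.G.appTop ((Scheme.ΓSpecIso R).inv r)
  rw [Scheme.Hom.appLE]
  simp

/-- Scalars on a model in terms of the base function field. -/
theorem scal_eq (N : Model (Spec R)) (r : R) : scal (X := N.Z) (Coh.toGlobal N.G) r = N.ψ (ι r) := by
  have h1 : (N.Z.presheaf.germ ⊤ (genericPoint N.Z) trivial (BlowUpLib.strHom (A := R) N.G ⊤ r)) =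
      RatSing.strStalk N (genericPoint N.Z) r := RatSing.germ_strHom N (U := ⊤) (x := genericPoint N.Z) trivial r
  have h2 : N.toKHom (genericPoint N.Z) (RatSing.strStalk N (genericPoint N.Z) r) = ι r := RatSing.toK_strStalk N _ r
  rw [← h2]
  show toFF ⊤ trivial (Coh.toGlobal N.G r) = (N.toKHom (genericPoint N.Z) ≫ N.ψ) _
  rw [Model.toKHom, Category.assoc, IsIso.inv_hom_id, Category.comp_id, ← h1, strHom_top_eq,
    TopCat.Presheaf.germ_stalkSpecializes_apply]
  rfl

variable (a : R)

/-- The minimal primes over `a`. -/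
abbrev Pr : Type u := {P : Ideal R // P ∈ (Ideal.span {a}).minimalPrimes}

instance (P : Pr a) : P.1.IsPrime := P.2.1.1

theorem Pr.mem (P : Pr a) : a ∈ P.1 := P.2.1.2 (Ideal.subset_span rfl)

variable [IsNoetherianRing R]

theorem Pr.height_le (P : Pr a) : P.1.height ≤ 1 :=
  Ideal.height_le_one_of_isPrincipal_of_mem_minimalPrimes _ _ P.2

variable [IsIntegrallyClosed R]

/-- The valuation ring of a prime of height at most one over `a`. -/
def SP (P : Pr a) : ValuationSubring KK :=
  { (TraceRat.loc KK P.1).toSubring with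
    mem_or_inv_mem' := fun x => TraceRat.loc_total KK P.1 (Pr.height_le a P) x }

theorem mem_SP (P : Pr a) (c : KK) : c ∈ SP a P ↔ c ∈ TraceRat.loc KK P.1 := Iff.rfl

instance isNoetherianRing_SP (P : Pr a) : IsNoetherianRing (SP a P) :=
  IsLocalization.isNoetherianRing P.1.primeCompl (TraceRat.loc KK P.1) inferInstance

theorem SP_map_lt_one_iff (P : Pr a) (s : R) : (SP a P).valuation (ι s) < 1 ↔ s ∈ P.1 :=
  valuation_map_lt_one_iff _ P.1 (mem_SP a P) s

theorem SP_map_le_one (P : Pr a) (s : R) : (SP a P).valuation (ι s) ≤ 1 :=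
  ((SP a P).valuation_le_one_iff _).2 (map_mem _ P.1 (mem_SP a P) s)

variable {a} (ha : a ≠ 0)

include ha in
theorem Pr.eq_of_le {P Q : Pr a} (h : P.1 ≤ Q.1) : P = Q := Subtype.ext (le_antisymm h (Q.2.2 ⟨P.2.1.1, P.2.1.2⟩ h))

include ha in
theorem exists_separator (P : Pr a) : ∃ e : R, e ∉ P.1 ∧
    ∀ Q : Pr a, Q ≠ P → (SP a Q).valuation (ι e) ≤ (SP a Q).valuation (ι a) := by
  classical
  haveI : Finite (Pr a) := (Ideal.finite_minimalPrimes_of_isNoetherianRing R (Ideal.span {a})).to_subtype
  haveI := Fintype.ofFinite (Pr a)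
  have ha0 : ι a ≠ 0 := (map_ne_zero_iff _ (IsFractionRing.injective R _)).2 ha
  have h : ∀ Q : Pr a, ∃ u : R, Q ≠ P → u ∉ P.1 ∧ (SP a Q).valuation (ι u) ≤ (SP a Q).valuation (ι a) := fun Q => by
    by_cases hQ : Q = P
    · exact ⟨1, fun h => absurd hQ h⟩
    obtain ⟨u, huQ, huP⟩ := SetLike.not_le_iff_exists.1 fun h => hQ (Pr.eq_of_le ha h)
    have hu0 : ι u ≠ 0 :=
      (map_ne_zero_iff _ (IsFractionRing.injective R _)).2 fun h => huP (h ▸ zero_mem _)
    obtain ⟨π, e, he, hπ, hπ0, hea, hval⟩ := exists_uniformizer (SP a Q) ha0 ((SP_map_lt_one_iff a Q a).2 (Pr.mem a Q))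
    obtain ⟨k, hk⟩ := hval _ (map_mem _ Q.1 (mem_SP a Q) u) hu0
    refine ⟨u ^ e, fun _ => ⟨fun h => huP (P.2.1.1.mem_of_pow_mem e h), ?_⟩⟩
    rw [map_pow, map_pow, hk, hea, ← pow_mul]
    refine pow_le_pow_right_of_le_one' hπ.le (Nat.le_mul_of_pos_left e (Nat.pos_of_ne_zero fun h0 => ?_))
    exact ((SP_map_lt_one_iff a Q u).2 huQ).ne (by rw [hk, h0, pow_zero])
  choose u hu using h
  refine ⟨∏ Q ∈ Finset.univ.erase P, u Q, fun hmem => ?_, fun Q hQ => ?_⟩
  · obtain ⟨Q, hQ, hmem⟩ := (Ideal.IsPrime.prod_mem_iff).1 hmem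
    exact (hu Q (Finset.ne_of_mem_erase hQ)).1 hmem
  · rw [← Finset.prod_erase_mul _ _ (Finset.mem_erase.2 ⟨hQ, Finset.mem_univ Q⟩), map_mul, map_mul]
    exact ((mul_le_mul_left (SP_map_le_one a Q _) _).trans (one_mul _).le).trans (hu Q hQ).2

include ha in
/-- A multiplier raising levels by one step, uniform in the families. -/
theorem exists_multiplier (hN : CAlg.IsNagata R) :
    ∃ (M : ℕ) (_ : 0 < M), ∀ n, n < M → ∃ c : R, (∀ P : Pr a, c ∉ P.1) ∧
      ∀ h : Pr a → KK, (∀ P, (SP a P).valuation (h P) ^ M ≤ (SP a P).valuation (ι a) ^ n) →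
        (∀ (P : Pr a) (W : ValuationSubring KK), W ≤ SP a P → (∀ r, ι r ∈ W) → h P ^ M / ι a ^ n ∈ W) →
        ∃ α : R, ∀ P, (SP a P).valuation (ι c * h P - ι α) ^ M ≤ (SP a P).valuation (ι a) ^ (n + 1) := by
  classical
  haveI : Finite (Pr a) := (Ideal.finite_minimalPrimes_of_isNoetherianRing R (Ideal.span {a})).to_subtype
  haveI := Fintype.ofFinite (Pr a)
  choose e he hstep using fun P : Pr a => exists_step (SP a P) P.1 (mem_SP a P) hN (Pr.mem a P) ha
  refine ⟨∏ P, e P, Finset.prod_pos fun P _ => he P, fun n hn => ?_⟩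
  set M := ∏ P, e P
  have hM : 0 < M := Finset.prod_pos fun P _ => he P
  choose lam hlam len b hb hgen using fun P =>
    hstep P M n hM (Finset.dvd_prod_of_mem e (Finset.mem_univ P))
  choose β d hd hbd using fun P i => (TraceRat.mem_loc KK).1 ((mem_SP a P _).1 (hb P i))
  choose sep hsep hsepv using exists_separator ha
  let D : Pr a → R := fun P => ∏ i, d P i
  let m : Pr a → R := fun P => sep P * (D P * lam P)
  have hmP : ∀ P, m P ∉ P.1 := fun P h => by
    rcases P.2.1.1.mem_or_mem h with h | h
    · exact hsep P h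
    · rcases P.2.1.1.mem_or_mem h with h | h
      · obtain ⟨i, -, hi⟩ := (Ideal.IsPrime.prod_mem_iff).1 h
        exact hd P i hi
      · exact hlam P h
  have hmQ : ∀ P Q, Q ≠ P → (SP a Q).valuation (ι (m P)) ≤ (SP a Q).valuation (ι a) := fun P Q hQ => by
    rw [map_mul, map_mul]
    exact ((mul_le_mul_right (SP_map_le_one a Q _) _).trans (mul_one _).le).trans (hsepv P Q hQ)
  refine ⟨∑ P, m P, fun Q hQ => hmP Q ?_, fun h hlev hW => ?_⟩
  · rw [← Finset.add_sum_erase _ _ (Finset.mem_univ Q)] at hQ
    refine (Q.1.add_mem_iff_left (Q.1.sum_mem fun P hP => ?_)).1 hQ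
    exact (SP_map_lt_one_iff a Q _).1 (lt_of_le_of_lt (hmQ P Q (Finset.ne_of_mem_erase hP).symm)
      ((SP_map_lt_one_iff a Q a).2 (Pr.mem a Q)))
  choose r hr using fun P => hgen P (h P) (hlev P) (hW P)
  let α : Pr a → R := fun P => sep P * ∑ i, r P i * (β P i * ∏ j ∈ Finset.univ.erase i, d P j)
  refine ⟨∑ P, α P, fun Q => ?_⟩
  have hterm : ∀ P, (SP a Q).valuation (ι (m P) * h Q - ι (α P)) ^ M ≤ (SP a Q).valuation (ι a) ^ (n + 1) := by
    intro P
    by_cases hQ : Q = P
    · subst hQ
      have e' : ι (m Q) * h Q - ι (α Q) =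
          ι (sep Q) * ι (D Q) * (ι (lam Q) * h Q - ∑ i, ι (r Q i) * b Q i) := by
        rw [mul_sub]
        congr 1
        · simp only [m, map_mul]; ring
        · simp only [α, map_mul, map_sum, Finset.mul_sum]
          refine Finset.sum_congr rfl fun i _ => ?_
          have hdi : ι (d Q i) ≠ 0 :=
            (map_ne_zero_iff _ (IsFractionRing.injective R _)).2 fun h => hd Q i (h ▸ zero_mem _)
          rw [hbd Q i, show ι (D Q) = ι (d Q i) * ι (∏ j ∈ Finset.univ.erase i, d Q j) by
            rw [← map_mul, Finset.mul_prod_erase _ _ (Finset.mem_univ i)]]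
          field_simp
      rw [e', map_mul, mul_pow]
      exact ((mul_le_mul_left (pow_le_one₀ zero_le (by
        rw [← map_mul]; exact SP_map_le_one a Q _)) _).trans (one_mul _).le).trans (hr Q)
    · have h1 : (SP a Q).valuation (ι (m P) * h Q) ≤ (SP a Q).valuation (ι a) := by
        rw [map_mul]
        refine (mul_le_mul_right ?_ _).trans ((mul_one _).le.trans (hmQ P Q hQ))
        rw [ValuationSubring.valuation_le_one_iff]
        refine mem_of_pow_mem _ hM.ne' ((ValuationSubring.valuation_le_one_iff _ _).1 ?_)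
        rw [map_pow]
        exact (hlev Q).trans (pow_le_one₀ zero_le (SP_map_le_one a Q a))
      have h2 : (SP a Q).valuation (ι (α P)) ≤ (SP a Q).valuation (ι a) := by
        simp only [α, map_mul (algebraMap R KK)]
        rw [map_mul]
        exact ((mul_le_mul_right (SP_map_le_one a Q _) _).trans (mul_one _).le).trans (hsepv P Q hQ)
      refine (pow_le_pow_left₀ zero_le ((Valuation.map_sub _ _ _).trans (max_le h1 h2)) M).trans ?_
      exact pow_le_pow_right_of_le_one' (SP_map_le_one a Q a) hn
  rw [map_sum, map_sum, Finset.sum_mul, ← Finset.sum_sub_distrib]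
  exact Finset.sum_induction _ (fun x => (SP a Q).valuation x ^ M ≤ (SP a Q).valuation (ι a) ^ (n + 1))
    (fun x y hx hy => pow_add_le (SP a Q) hx hy) (by rw [map_zero, zero_pow hM.ne']; exact zero_le)
    fun P _ => hterm P

variable (N : Model (Spec R))

theorem Fam.affine {G : N.Z → KK} (hG : Fam N a G) (c α : R) : Fam N a fun y => ι c * G y - ι α where
  mem y := sub_mem (mul_mem (RatSing.map_mem_locRing N y c) (hG.mem y)) (RatSing.map_mem_locRing N y α)
  near y := (hG.near y).mono fun z ⟨t, ht, e⟩ => ⟨ι c * t, mul_mem (RatSing.map_mem_locRing N z c) ht, by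
    linear_combination (ι c) * e⟩

variable [IsLocalRing R]

/-- A multiplier making every family congruent to a constant over the height-one primes. -/
theorem exists_uniform (hN : CAlg.IsNagata R) (ha : a ≠ 0) (ham : a ∈ maximalIdeal R)
    (hheight : (maximalIdeal R).height = 2) :
    ∃ (M : ℕ) (_ : 0 < M) (c : R), (∀ P : Pr a, c ∉ P.1) ∧
      ∀ (N : Model (Spec R)) [IsProper N.G] [IsLocallyNoetherian N.Z], Pi1.IsNormalScheme N.Z →
        (∃ U : (Spec R).Opens, (U : Set (Spec R)).Nonempty ∧ IsIso (N.G ∣_ U)) →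
        ∀ (G : N.Z → KK), Fam N a G → ∀ ξ : Pr a → N.Z, (∀ P, Ctr N (SP a P) (ξ P)) →
          ∃ α : R, ∀ P, (SP a P).valuation (ι c * G (ξ P) - ι α) ^ M ≤ (SP a P).valuation (ι a) ^ M := by
  classical
  obtain ⟨M, hM, hmul⟩ := exists_multiplier ha hN
  choose! c hc hstep using hmul
  have main : ∀ n, n ≤ M → (∀ P : Pr a, (∏ i ∈ Finset.range n, c i) ∉ P.1) ∧
      ∀ (N : Model (Spec R)) [IsProper N.G] [IsLocallyNoetherian N.Z], Pi1.IsNormalScheme N.Z →
        (∃ U : (Spec R).Opens, (U : Set (Spec R)).Nonempty ∧ IsIso (N.G ∣_ U)) →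
        ∀ (G : N.Z → KK), Fam N a G → ∀ ξ : Pr a → N.Z, (∀ P, Ctr N (SP a P) (ξ P)) → ∃ α : R, ∀ P,
          (SP a P).valuation (ι (∏ i ∈ Finset.range n, c i) * G (ξ P) - ι α) ^ M ≤ (SP a P).valuation (ι a) ^ n := by
    intro n
    induction n with
    | zero =>
      refine fun _ => ⟨fun P => by rw [Finset.prod_range_zero]; exact P.1.one_notMem, ?_⟩
      intro N _ _ hNn hU G hG ξ hξ
      refine ⟨0, fun P => ?_⟩
      rw [Finset.prod_range_zero, map_one, one_mul, map_zero, sub_zero, pow_zero]
      exact pow_le_one₀ zero_le (((SP a P).valuation_le_one_iff _).2 ((hξ P).1 (hG.mem _)))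
    | succ n ih =>
      intro hn
      obtain ⟨hprod, ih⟩ := ih (by omega)
      refine ⟨fun P h => ?_, ?_⟩
      · rw [Finset.prod_range_succ] at h
        exact (P.2.1.1.mem_or_mem h).elim (hprod P) (hc n (by omega) P)
      intro N _ _ hNn hU G hG ξ hξ
      obtain ⟨α, hα⟩ := ih N hNn hU G hG ξ hξ
      set G' : N.Z → KK := fun y => ι (∏ i ∈ Finset.range n, c i) * G y - ι α with hG'
      have hfam : Fam N a G' := hG.affine N _ _
      obtain ⟨U, hUne, hUiso⟩ := hU
      have hlev : ∀ y, G' y ^ M / ι a ^ n ∈ locRing N y := by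
        refine key hNn hUne ham ha (by rw [hheight]; decide) hfam (by omega) hM fun z hz hza hzF => ?_
        obtain ⟨P, hPz⟩ : ∃ P : Pr a, P.1 = (N.G z).asIdeal := by
          have haq : a ∈ (N.G z).asIdeal := (vv_map_lt_one_iff N z a).1 hza
          obtain ⟨P, hP, hPle⟩ := Ideal.exists_minimalPrimes_le (J := (N.G z).asIdeal)
            ((Ideal.span_singleton_le_iff_mem _).2 haq)
          refine ⟨⟨P, hP⟩, by_contra fun hne => hzF ?_⟩
          haveI := hP.1.1
          have hlt : P < (N.G z).asIdeal := lt_of_le_of_ne hPle hne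
          have hPne : P ≠ ⊥ := fun h => ha (by simpa [h] using hP.1.2 (Ideal.subset_span rfl : a ∈ Ideal.span {a}))
          have h1 : P.height ≠ 0 := fun h => hPne (Ideal.height_eq_zero_iff_eq_bot.1 h)
          refine PrimeSpectrum.ext (le_antisymm (le_maximalIdeal (N.G z).isPrime.ne_top) ?_)
          by_contra hnot
          have hlt2 : (N.G z).asIdeal < maximalIdeal R :=
            lt_of_le_of_ne (le_maximalIdeal (N.G z).isPrime.ne_top) fun e => hnot (le_of_eq e.symm)
          have s1 := Ideal.height_strict_mono_of_isPrime_of_isPrime hlt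
          have s2 := Ideal.height_strict_mono_of_isPrime_of_isPrime hlt2
          rw [hheight] at s2
          have h3 : (N.G z).asIdeal.height ≤ 1 := Order.le_of_lt_add_one (s2.trans_eq one_add_one_eq_two.symm)
          exact h1 (Order.lt_one_iff.1 (s1.trans_le h3))
        have hcv : cv N z = SP a P := by
          have hle : SP a P ≤ cv N z := fun c hc => TraceRat.loc_le_valuation KK
            (fun r => ((cv N z).valuation_le_one_iff _).1 (vv_map_le_one N z r)) (fun s hs => by
              rw [← (cv N z).valuation_le_one_iff, map_inv₀, le_antisymm (vv_map_le_one N z s)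
                (not_lt.1 fun hlt => hs (hPz ▸ (vv_map_lt_one_iff N z s).1 hlt)), inv_one]) hc
          refine le_antisymm (fun x hx => ?_) hle
          by_contra hxP
          have h1 := (SP a P).inv_mem_nonunits_iff.2 (Or.inr hxP)
          obtain ⟨r, s, hs, e⟩ := (TraceRat.mem_loc KK).1 ((mem_SP a P _).1 (ValuationSubring.nonunits_subset h1))
          have hs1 : vv N z (ι s) = 1 :=
            le_antisymm (vv_map_le_one N z s) (not_lt.1 fun hlt => hs (hPz ▸ (vv_map_lt_one_iff N z s).1 hlt))
          have hrP : r ∈ P.1 := by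
            rw [← SP_map_lt_one_iff]
            rw [ValuationSubring.mem_nonunits_iff, e, map_mul, map_inv₀,
              valuation_map_eq_one _ P.1 (mem_SP a P) hs, inv_one, mul_one] at h1
            exact h1
          have h2 : vv N z x⁻¹ < 1 := by
            rw [e, map_mul, map_inv₀, hs1, inv_one, mul_one, vv_map_lt_one_iff, ← hPz]
            exact hrP
          exact (cv N z).mem_nonunits_iff_or.1 h2 |>.elim (fun h => hxP (inv_eq_zero.1 h ▸ zero_mem _))
            (fun h => h (by rwa [inv_inv]))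
        haveI : IsSeparated N.G := inferInstance
        have hzξ : z = ξ P := Ctr.unique N (cv_ctr N z) (by rw [hcv]; exact hξ P)
        have h1 : (SP a P).valuation (G' z) ^ M ≤ (SP a P).valuation (ι a) ^ n := by
          rw [hzξ]
          exact hα P
        revert h1
        simp only [vv]
        rw [hcv]
        exact id
      obtain ⟨β, hβ⟩ := hstep n (by omega) (fun P => G' (ξ P)) (fun P => hα P) fun P W hW hWR =>
        mem_finer ha hfam (by omega) hlev (hξ P) ((SP_map_lt_one_iff a P a).2 (Pr.mem a P)) W hW hWR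
      refine ⟨c n * α + β, fun P => ?_⟩
      have e : ι (∏ i ∈ Finset.range (n + 1), c i) * G (ξ P) - ι (c n * α + β) = ι (c n) * G' (ξ P) - ι β := by
        rw [Finset.prod_range_succ, map_mul, map_add, map_mul, hG']
        ring
      rw [e]
      exact hβ P
  exact ⟨M, hM, _, (main M le_rfl).1, fun N _ _ => (main M le_rfl).2 N⟩

end Groth.Agent.TorBound
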