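import Mathlib
import Groth.Agent.TorBound.Main

/-!
# The torsion of the first cohomology of normal modifications has bounded length
-/

set_option autoImplicit false
set_option linter.style.haveILetI false
set_option linter.unusedSectionVars false
set_option backward.isDefEq.respectTransparency false
set_option backward.isDefEq.respectTransparency.types false
set_option maxHeartbeats 800000

universe u

open CategoryTheory CategoryTheory.Limits AlgebraicGeometry TopologicalSpace IsLocalRing Filter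
open scoped Topology
open Groth.Agent.FibrePP (O)
open Groth.Agent.NormSeq (Model locRing)
open Groth.Agent.Sol Groth.Agent.RatUp

noncomputable section

namespace Groth.Agent.TorBound

variable {R : CommRingCat.{u}} [IsDomain R] [IsNoetherianRing R] [IsIntegrallyClosed R] [IsLocalRing R]

local notation "KK" => Scheme.functionField (Spec R)
local notation "ι" => algebraMap R (Scheme.functionField (Spec R))

theorem mem_range_of_mem_all (N : Model (Spec R)) [IsProper N.G] {x : KK} (h : ∀ y, x ∈ locRing N y) :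
    ∃ r, ι r = x :=
  mem_range_of_forall x fun W hW => by
    obtain ⟨y, hy⟩ := exists_ctr N W hW
    exact hy.1 (h y)

theorem mem_of_div_pow {N : Model (Spec R)} (hNn : Pi1.IsNormalScheme N.Z) {x : KK} {a : R} {M : ℕ} (hM : 0 < M)
    (y : N.Z) (h : x ^ M / ι a ^ M ∈ locRing N y) : x / ι a ∈ locRing N y :=
  mem_locRing_of_forall N y (hNn y).2 _ fun W hW => mem_of_pow_mem W hM.ne' (by rw [div_pow]; exact hW h)

variable {a : R}

/-- The punctured spectrum meets the points of dimension one over `a` only at the minimal primes. -/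
theorem levels_of_minimal (ha : a ≠ 0) (hheight : (maximalIdeal R).height = 2) (N : Model (Spec R)) [IsProper N.G]
    (ξ : Pr a → N.Z) (hξ : ∀ P, Ctr N (SP a P) (ξ P)) (G : N.Z → KK) {n m : ℕ}
    (hlev : ∀ P, (SP a P).valuation (G (ξ P)) ^ m ≤ (SP a P).valuation (ι a) ^ n) (z : N.Z)
    (hza : vv N z (ι a) < 1) (hzF : N.G z ≠ closedPoint R) : vv N z (G z) ^ m ≤ vv N z (ι a) ^ n := by
  have haq : a ∈ (N.G z).asIdeal := (vv_map_lt_one_iff N z a).1 hza
  obtain ⟨P, hP, hPle⟩ := Ideal.exists_minimalPrimes_le (J := (N.G z).asIdeal)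
    ((Ideal.span_singleton_le_iff_mem _).2 haq)
  haveI := hP.1.1
  have hPz : P = (N.G z).asIdeal := by
    by_contra hne
    refine hzF ?_
    have hlt : P < (N.G z).asIdeal := lt_of_le_of_ne hPle hne
    have hPne : P ≠ ⊥ := fun h => ha (by simpa [h] using hP.1.2 (Ideal.subset_span rfl : a ∈ Ideal.span {a}))
    have h1 : P.height ≠ 0 := fun h => hPne (Ideal.height_eq_zero_iff_eq_bot.1 h)
    refine PrimeSpectrum.ext (le_antisymm (le_maximalIdeal (N.G z).isPrime.ne_top) ?_)
    by_contra hnot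
    have hlt2 : (N.G z).asIdeal < maximalIdeal R :=
      lt_of_le_of_ne (le_maximalIdeal (N.G z).isPrime.ne_top) fun e => hnot (le_of_eq e.symm)
    have s1 := Ideal.height_strict_mono_of_isPrime_of_isPrime hlt
    have s2 := Ideal.height_strict_mono_of_isPrime_of_isPrime hlt2
    rw [hheight] at s2
    have h3 : (N.G z).asIdeal.height ≤ 1 := Order.le_of_lt_add_one (s2.trans_eq one_add_one_eq_two.symm)
    exact h1 (Order.lt_one_iff.1 (s1.trans_le h3))
  let P' : Pr a := ⟨P, hP⟩
  have hnotmem : ∀ s, s ∉ P → vv N z (ι s) = 1 := fun s hs =>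
    le_antisymm (vv_map_le_one N z s) (not_lt.1 fun hlt => hs (hPz ▸ (vv_map_lt_one_iff N z s).1 hlt))
  have hle : SP a P' ≤ cv N z := fun c hc => TraceRat.loc_le_valuation KK
    (fun r => ((cv N z).valuation_le_one_iff _).1 (vv_map_le_one N z r)) (fun s hs => by
      rw [← (cv N z).valuation_le_one_iff, map_inv₀]
      exact le_of_eq (inv_eq_one.2 (hnotmem s hs))) hc
  have hcv : cv N z = SP a P' := by
    refine le_antisymm (fun x hx => ?_) hle
    by_contra hxP
    have h1 := (SP a P').inv_mem_nonunits_iff.2 (Or.inr hxP)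
    obtain ⟨r, s, hs, e⟩ := (TraceRat.mem_loc KK).1 ((mem_SP a P' _).1 (ValuationSubring.nonunits_subset h1))
    rw [ValuationSubring.mem_nonunits_iff, e, map_mul, map_inv₀,
      valuation_map_eq_one _ P'.1 (mem_SP a P') hs, inv_one, mul_one, SP_map_lt_one_iff] at h1
    have h2 : vv N z x⁻¹ < 1 := by
      rw [e, map_mul, map_inv₀, hnotmem s hs, inv_one, mul_one, vv_map_lt_one_iff, ← hPz]
      exact h1
    exact ((cv N z).mem_nonunits_iff_or.1 h2).elim (fun h => hxP (inv_eq_zero.1 h ▸ zero_mem _))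
      fun h => h (by rwa [inv_inv])
  haveI : IsSeparated N.G := inferInstance
  have hzξ : z = ξ P' := Ctr.unique N (cv_ctr N z) (by rw [hcv]; exact hξ P')
  have h1 : (SP a P').valuation (G z) ^ m ≤ (SP a P').valuation (ι a) ^ n := by
    rw [hzξ]
    exact hlev P'
  revert h1
  simp only [vv]
  rw [hcv]
  exact id

/-- A family congruent to zero modulo `a` over the height-one primes is divisible by `a`. -/
theorem div_mem (ha : a ≠ 0) (ham : a ∈ maximalIdeal R) (hheight : (maximalIdeal R).height = 2)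
    (N : Model (Spec R)) [IsProper N.G] [IsLocallyNoetherian N.Z] (hNn : Pi1.IsNormalScheme N.Z)
    {U : (Spec R).Opens} (hU : (U : Set (Spec R)).Nonempty) [IsIso (N.G ∣_ U)] {G : N.Z → KK} (hG : Fam N a G)
    (ξ : Pr a → N.Z) (hξ : ∀ P, Ctr N (SP a P) (ξ P)) {M : ℕ} (hM : 0 < M)
    (hlev : ∀ P, (SP a P).valuation (G (ξ P)) ^ M ≤ (SP a P).valuation (ι a) ^ M) (y : N.Z) :
    G y / ι a ∈ locRing N y :=
  mem_of_div_pow hNn hM y (key hNn hU ham ha (by rw [hheight]; decide) hG le_rfl hM
    (fun z _ hza hzF => levels_of_minimal ha hheight N ξ hξ G hlev z hza hzF) y)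

variable (N : Model (Spec R))

/-- A normalised representative of a torsion class with its value modulo `(a, c)`. -/
def Val (c : R) (M : ℕ) (ξ : Pr a → N.Z) (z : Coh.HH N.Z (Coh.structureModule N.Z) 1) (v : R) : Prop :=
  ∃ g : N.Z → N.Z.functionField, IsCls g z ∧ ∃ G : N.Z → KK, Fam N a G ∧ (∀ y, N.ψ (G y) = N.ψ (ι a) * g y) ∧
    ∀ P, (SP a P).valuation (ι c * G (ξ P) - ι v) ^ M ≤ (SP a P).valuation (ι a) ^ M

theorem exists_val (hNn : Pi1.IsNormalScheme N.Z) [IsProper N.G] [IsLocallyNoetherian N.Z] (ha : a ≠ 0) {c : R}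
    {M : ℕ} (ξ : Pr a → N.Z)
    (huni : ∀ G : N.Z → KK, Fam N a G →
      ∃ α : R, ∀ P, (SP a P).valuation (ι c * G (ξ P) - ι α) ^ M ≤ (SP a P).valuation (ι a) ^ M)
    (z : Coh.HH N.Z (Coh.structureModule N.Z) 1)
    (hz : letI := QCoh.modHH (Coh.toGlobal N.G) (Coh.structureModule N.Z) 1; a • z = 0) :
    ∃ v, Val N c M ξ z v := by
  let := QCoh.modHH (Coh.toGlobal N.G) (Coh.structureModule N.Z) 1
  let e : KK ≃+* N.Z.functionField := (asIso N.ψ).commRingCatIsoToRingEquiv
  have he : ∀ x, e x = N.ψ x := fun x => rfl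
  obtain ⟨g, hg⟩ := exists_isCls z
  obtain ⟨k, hk⟩ := (hg.smul (Coh.toGlobal N.G) a).eq_zero_iff.1 hz
  have ha0 : N.ψ (ι a) ≠ 0 := by
    rw [← he, map_ne_zero_iff _ e.injective, map_ne_zero_iff _ (IsFractionRing.injective R _)]
    exact ha
  set g' : N.Z → N.Z.functionField := fun y => g y + -(k / N.ψ (ι a)) with hg'
  have hg'c : IsCls g' z := hg.congr _
  have hag : ∀ y, N.ψ (ι a) * g' y ∈ O y := fun y => by
    have h1 := neg_mem (hk y)
    rw [scal_eq, neg_sub] at h1
    convert h1 using 1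
    rw [hg']
    field_simp
    ring
  set G : N.Z → KK := fun y => e.symm (N.ψ (ι a) * g' y) with hGdef
  have hGψ : ∀ y, N.ψ (G y) = N.ψ (ι a) * g' y := fun y => e.apply_symm_apply _
  have hfam : Fam N a G := by
    refine ⟨fun y => (mem_locRing_iff N y _).2 (by rw [hGψ]; exact hag y), fun y => (hg'c.1 y).mono fun w hw => ?_⟩
    refine ⟨e.symm (g' y - g' w), (mem_locRing_iff N w _).2 (by rw [← he, e.apply_symm_apply]; exact hw), ?_⟩
    apply e.injective
    rw [he, he, map_sub, map_mul, hGψ, hGψ, ← he (e.symm _), e.apply_symm_apply]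
    ring
  obtain ⟨v, hv⟩ := huni G hfam
  exact ⟨v, g', hg'c, G, hfam, hGψ, hv⟩

theorem val_unique (hNn : Pi1.IsNormalScheme N.Z) [IsProper N.G] [IsLocallyNoetherian N.Z] (ha : a ≠ 0)
    (ham : a ∈ maximalIdeal R) (hheight : (maximalIdeal R).height = 2) {U : (Spec R).Opens}
    (hU : (U : Set (Spec R)).Nonempty) [IsIso (N.G ∣_ U)] {c : R} {M : ℕ} (hM : 0 < M) (ξ : Pr a → N.Z)
    (hξ : ∀ P, Ctr N (SP a P) (ξ P)) {z : Coh.HH N.Z (Coh.structureModule N.Z) 1} {v v' : R}
    (h : Val N c M ξ z v) (h' : Val N c M ξ z v') :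
    Ideal.Quotient.mk (Ideal.span {a, c}) v = Ideal.Quotient.mk (Ideal.span {a, c}) v' := by
  let e : KK ≃+* N.Z.functionField := (asIso N.ψ).commRingCatIsoToRingEquiv
  have he : ∀ x, e x = N.ψ x := fun x => rfl
  have ha0 : ι a ≠ 0 := (map_ne_zero_iff _ (IsFractionRing.injective R _)).2 ha
  obtain ⟨g, hg, G, hG, hGψ, hv⟩ := h
  obtain ⟨g', hg', G', hG', hGψ', hv'⟩ := h'
  have h0 : IsCls (fun y => g y + -g' y) (z + -z) := hg.add hg'.neg
  obtain ⟨k, hk⟩ := h0.eq_zero_iff.1 (add_neg_cancel z)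
  have hk' : ∀ y, e.symm k - (G y - G' y) / ι a ∈ locRing N y := fun y => by
    rw [mem_locRing_iff]
    convert hk y using 1
    rw [← he, map_sub, map_div₀, map_sub, e.apply_symm_apply, he, he, he, hGψ, hGψ', ← mul_sub,
      mul_div_cancel_left₀ _ ((map_ne_zero N.ψ.hom).2 ha0), sub_eq_add_neg (g y)]
  obtain ⟨γ, hγ⟩ := mem_range_of_mem_all N (x := ι a * e.symm k) fun y => by
    have h1 := add_mem (mul_mem (RatSing.map_mem_locRing N y a) (hk' y)) (sub_mem (hG.mem y) (hG'.mem y))
    rwa [mul_sub, mul_div_cancel₀ _ ha0, sub_add_cancel] at h1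
  have hP : ∀ P, (SP a P).valuation (ι v - ι v' - ι c * ι γ) ^ M ≤ (SP a P).valuation (ι a) ^ M := by
    intro P
    have e1 : ι v - ι v' - ι c * ι γ = (ι c * G' (ξ P) - ι v') - (ι c * G (ξ P) - ι v) -
        ι c * ι a * (e.symm k - (G (ξ P) - G' (ξ P)) / ι a) := by
      rw [hγ, mul_sub (ι c * ι a), mul_assoc (ι c) (ι a) ((G (ξ P) - G' (ξ P)) / ι a), mul_div_cancel₀ _ ha0]
      ring
    rw [e1]
    refine pow_sub_le _ (pow_sub_le _ (hv' P) (hv P)) (pow_le_pow_left₀ zero_le ?_ M)
    rw [map_mul, map_mul]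
    refine (mul_le_mul_right (((SP a P).valuation_le_one_iff _).2 ((hξ P).1 (hk' (ξ P)))) _).trans
      ((mul_one _).le.trans ?_)
    exact (mul_le_mul_left (SP_map_le_one a P c) _).trans (one_mul _).le
  have hconst : Fam N a fun _ => ι (v - v' - c * γ) :=
    ⟨fun y => RatSing.map_mem_locRing N y _, fun y => Eventually.of_forall fun w => ⟨0, zero_mem _, by ring⟩⟩
  obtain ⟨w, hw⟩ := mem_range_of_mem_all N (x := ι (v - v' - c * γ) / ι a) fun y =>
    div_mem ha ham hheight N hNn hU hconst ξ hξ hM (fun P => by rw [map_sub ι, map_sub ι, map_mul ι]; exact hP P) y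
  rw [eq_div_iff ha0, ← map_mul] at hw
  have hw' := IsFractionRing.injective R _ hw
  rw [Ideal.Quotient.mk_eq_mk_iff_sub_mem, Ideal.mem_span_pair]
  exact ⟨w, γ, by linear_combination hw'⟩

theorem val_eq_zero (hNn : Pi1.IsNormalScheme N.Z) [IsProper N.G] [IsLocallyNoetherian N.Z] (ha : a ≠ 0)
    (ham : a ∈ maximalIdeal R) (hheight : (maximalIdeal R).height = 2) {U : (Spec R).Opens}
    (hU : (U : Set (Spec R)).Nonempty) [IsIso (N.G ∣_ U)] {c : R} (hc : ∀ P : Pr a, c ∉ P.1) {M : ℕ} (hM : 0 < M)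
    (ξ : Pr a → N.Z) (hξ : ∀ P, Ctr N (SP a P) (ξ P)) {z : Coh.HH N.Z (Coh.structureModule N.Z) 1} {v : R}
    (h : Val N c M ξ z v) (hv0 : v ∈ Ideal.span {a, c}) : z = 0 := by
  let e : KK ≃+* N.Z.functionField := (asIso N.ψ).commRingCatIsoToRingEquiv
  have he : ∀ x, e x = N.ψ x := fun x => rfl
  have ha0 : ι a ≠ 0 := (map_ne_zero_iff _ (IsFractionRing.injective R _)).2 ha
  obtain ⟨g, hg, G, hG, hGψ, hv⟩ := h
  obtain ⟨w, γ, hwγ⟩ := Ideal.mem_span_pair.1 hv0
  have hlev : ∀ P, (SP a P).valuation (ι 1 * G (ξ P) - ι γ) ^ M ≤ (SP a P).valuation (ι a) ^ M := fun P => by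
    have e1 : ι c * (ι 1 * G (ξ P) - ι γ) = (ι c * G (ξ P) - ι v) + ι a * ι w := by
      rw [← hwγ, map_add, map_mul, map_mul, map_one]
      ring
    rw [show (SP a P).valuation (ι 1 * G (ξ P) - ι γ) = (SP a P).valuation (ι c * (ι 1 * G (ξ P) - ι γ)) by
      rw [map_mul (SP a P).valuation, valuation_map_eq_one _ P.1 (mem_SP a P) (hc P), one_mul], e1]
    refine pow_add_le _ (hv P) (pow_le_pow_left₀ zero_le ?_ M)
    rw [map_mul]
    exact (mul_le_mul_right (SP_map_le_one a P w) _).trans (mul_one _).le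
  refine hg.eq_zero_iff.2 ⟨e (ι γ / ι a), fun y => ?_⟩
  have h1 := (mem_locRing_iff N y _).1 (neg_mem (div_mem ha ham hheight N hNn hU (hG.affine N 1 γ) ξ hξ hM hlev y))
  convert h1 using 1
  rw [← he, map_one, one_mul, map_neg, map_div₀, map_div₀, map_sub, he (G y), hGψ, sub_div, ← he,
    mul_div_cancel_left₀ _ ((map_ne_zero_iff _ e.injective).2 ha0)]
  ring

/-- The `a`-torsion of the first cohomology of normal modifications has bounded length. -/
theorem exists_bound (hN : CAlg.IsNagata R) (hheight : (maximalIdeal R).height = 2) (ha : a ≠ 0)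
    (ham : a ∈ maximalIdeal R) :
    ∃ n : ℕ, ∀ (N : Model (Spec R)) [IsProper N.G], Pi1.IsNormalScheme N.Z →
      (∃ U : (Spec R).Opens, (U : Set (Spec R)).Nonempty ∧ IsIso (N.G ∣_ U)) →
      letI := QCoh.modHH (Coh.toGlobal N.G) (Coh.structureModule N.Z) 1
      Module.length R ↥(Submodule.torsionBy R (Coh.HH N.Z (Coh.structureModule N.Z) 1) a) ≤ (n : ℕ∞) := by
  classical
  obtain ⟨M, hM, c, hc, huni⟩ := exists_uniform hN ha ham hheight
  let I : Ideal R := Ideal.span {a, c}
  haveI : IsArtinianRing (R ⧸ I) := by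
    haveI : Ring.KrullDimLE 0 (R ⧸ I) := Ring.krullDimLE_zero_iff.2 fun q hq => by
      haveI := hq
      have hI : I ≤ q.comap (Ideal.Quotient.mk I) := fun x hx => by
        rw [Ideal.mem_comap, Ideal.Quotient.eq_zero_iff_mem.2 hx]
        exact zero_mem q
      have hmax : (q.comap (Ideal.Quotient.mk I)) = maximalIdeal R := by
        by_contra hne
        obtain ⟨P, hP, hPle⟩ := Ideal.exists_minimalPrimes_le (J := q.comap (Ideal.Quotient.mk I))
          (I := Ideal.span {a}) ((Ideal.span_singleton_le_iff_mem _).2 (hI (Ideal.subset_span (by simp))))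
        haveI := hP.1.1
        rcases hPle.lt_or_eq with hlt | heq
        · have hlt2 : q.comap (Ideal.Quotient.mk I) < maximalIdeal R :=
            lt_of_le_of_ne (le_maximalIdeal (Ideal.IsPrime.ne_top inferInstance)) hne
          have s1 := Ideal.height_strict_mono_of_isPrime_of_isPrime hlt
          have s2 := Ideal.height_strict_mono_of_isPrime_of_isPrime hlt2
          rw [hheight] at s2
          have h3 : (q.comap (Ideal.Quotient.mk I)).height ≤ 1 :=
            Order.le_of_lt_add_one (s2.trans_eq one_add_one_eq_two.symm)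
          have hPne : P ≠ ⊥ := fun h => ha (by simpa [h] using hP.1.2 (Ideal.subset_span rfl : a ∈ Ideal.span {a}))
          exact hPne (Ideal.height_eq_zero_iff_eq_bot.1 (Order.lt_one_iff.1 (s1.trans_le h3)))
        · exact hc ⟨P, hP⟩ (heq ▸ hI (Ideal.subset_span (by simp)))
      rw [← Ideal.map_comap_of_surjective (Ideal.Quotient.mk I) Ideal.Quotient.mk_surjective q, hmax]
      refine (Ideal.map_eq_top_or_isMaximal_of_surjective _ Ideal.Quotient.mk_surjective
        (maximalIdeal.isMaximal R)).resolve_left fun h => ?_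
      rw [← hmax, Ideal.map_comap_of_surjective _ Ideal.Quotient.mk_surjective] at h
      exact hq.ne_top h
    exact IsNoetherianRing.isArtinianRing_of_krullDimLE_zero
  have hlen : Module.length R (R ⧸ I) ≠ ⊤ := by
    have h1 : Module.length (R ⧸ I) (R ⧸ I) ≠ ⊤ :=
      Module.length_ne_top_iff.2 (isFiniteLength_iff_isNoetherian_isArtinian.2 ⟨inferInstance, inferInstance⟩)
    rwa [← Module.length_eq_of_surjective (S := R) (R := R ⧸ I) (M := R ⧸ I) Ideal.Quotient.mk_surjective] at h1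
  refine ⟨(Module.length R (R ⧸ I)).toNat, fun N _ hNn hU => ?_⟩
  rw [ENat.natCast_toNat hlen]
  let := QCoh.modHH (Coh.toGlobal N.G) (Coh.structureModule N.Z) 1
  haveI : IsLocallyNoetherian N.Z := LocallyOfFiniteType.isLocallyNoetherian N.G
  have hctr : ∀ P : Pr a, ∃ y, Ctr N (SP a P) y := fun P => exists_ctr N _ (map_mem _ P.1 (mem_SP a P))
  choose ξ hξ using hctr
  have hval := fun z : Submodule.torsionBy R (Coh.HH N.Z (Coh.structureModule N.Z) 1) a =>
    exists_val N hNn ha ξ (fun G hG => huni N hNn hU G hG ξ hξ) z.1 z.2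
  choose v hv using hval
  obtain ⟨U, hUne, hUiso⟩ := hU
  have huniq := fun {z w w'} => val_unique N hNn ha ham hheight hUne hM ξ hξ (c := c) (z := z) (v := w) (v' := w')
  let φ : Submodule.torsionBy R (Coh.HH N.Z (Coh.structureModule N.Z) 1) a →ₗ[R] R ⧸ I :=
    { toFun := fun z => Ideal.Quotient.mk I (v z)
      map_add' := fun z z' => by
        obtain ⟨g, hg, G, hG, hGψ, hv1⟩ := hv z
        obtain ⟨g', hg', G', hG', hGψ', hv2⟩ := hv z'
        rw [← map_add]
        refine huniq (hv (z + z')) ⟨_, hg.add hg', fun y => G y + G' y, ⟨fun y => add_mem (hG.mem y) (hG'.mem y),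
          fun y => ((hG.near y).and (hG'.near y)).mono ?_⟩, fun y => ?_, fun P => ?_⟩
        · rintro w ⟨⟨t, ht, e⟩, t', ht', e'⟩
          exact ⟨t + t', add_mem ht ht', by linear_combination e + e'⟩
        · rw [map_add, hGψ, hGψ', mul_add]
        · rw [show ι c * (G (ξ P) + G' (ξ P)) - ι (v z + v z') =
            (ι c * G (ξ P) - ι (v z)) + (ι c * G' (ξ P) - ι (v z')) by rw [map_add]; ring]
          exact pow_add_le _ (hv1 P) (hv2 P)
      map_smul' := fun r z => by
        obtain ⟨g, hg, G, hG, hGψ, hv1⟩ := hv z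
        rw [RingHom.id_apply, Algebra.smul_def, Ideal.Quotient.algebraMap_eq, ← map_mul]
        refine huniq (hv (r • z)) ⟨_, hg.smul (Coh.toGlobal N.G) r, fun y => ι r * G y,
          ⟨fun y => mul_mem (RatSing.map_mem_locRing N y r) (hG.mem y), fun y => (hG.near y).mono ?_⟩,
          fun y => ?_, fun P => ?_⟩
        · rintro w ⟨t, ht, e⟩
          exact ⟨ι r * t, mul_mem (RatSing.map_mem_locRing N w r) ht, by linear_combination (ι r) * e⟩
        · rw [scal_eq, map_mul, hGψ]
          ring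
        · rw [show ι c * (ι r * G (ξ P)) - ι (r * v z) = ι r * (ι c * G (ξ P) - ι (v z)) by rw [map_mul]; ring,
            map_mul, mul_pow]
          exact ((mul_le_mul_left (pow_le_one₀ zero_le (SP_map_le_one a P r)) _).trans (one_mul _).le).trans (hv1 P) }
  refine Module.length_le_of_injective φ ((injective_iff_map_eq_zero φ).2 fun z hz => Subtype.ext ?_)
  exact val_eq_zero N hNn ha ham hheight hUne hc hM ξ hξ (hv z) (Ideal.Quotient.eq_zero_iff_mem.1 hz)

end Groth.Agent.TorBound
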